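import Cfsg.Agent.SUThreeSylowAut.Existence
import Cfsg.Agent.AlphaRho.Models

/-!
The Sylow 2-subgroups of `PSU₃(2^n)`: a group of order `q³` whose `q - 1` involutions are central,
are all squares, and in which the centralizer of every other element is abelian of order `q²`.
-/

set_option autoImplicit false
set_option linter.style.haveILetI false

namespace CfsgLib.U3Type

/-- What is used about a Sylow 2-subgroup of `PSU₃(2^n)`. -/
structure Facts (T : Type*) [Group T] (n : ℕ) : Prop where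
  card : Nat.card T = (2 ^ n) ^ 3
  central : ∀ g : T, g * g = 1 → ∀ h, g * h = h * g
  sq_sq : ∀ g : T, g * g * (g * g) = 1
  comm_sq : ∀ g h : T, g * h * g⁻¹ * h⁻¹ * (g * h * g⁻¹ * h⁻¹) = 1
  card_inv : Nat.card {g : T // g * g = 1} = 2 ^ n
  exists_sqrt : ∀ e : T, e * e = 1 → ∃ g, g * g = e
  cent : ∀ x : T, x * x ≠ 1 → ∀ a b, a * x = x * a → b * x = x * b → a * b = b * a
  cent_card : ∀ x : T, x * x ≠ 1 → Nat.card {g : T // g * x = x * g} = (2 ^ n) ^ 2

/-- The facts only depend on the isomorphism type. -/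
theorem Facts.congr {T T' : Type*} [Group T] [Group T'] {n : ℕ} (h : Facts T n) (e : T ≃* T') :
    Facts T' n := by
  have hsq : ∀ g : T', g * g = 1 → e.symm g * e.symm g = 1 := fun g hg => by
    rw [← map_mul, hg, map_one]
  have hsq' : ∀ g : T', g * g ≠ 1 → e.symm g * e.symm g ≠ 1 := fun g hg hc => hg
    (e.symm.injective (by rw [map_mul, hc, map_one]))
  refine ⟨by rw [← Nat.card_congr e.toEquiv, h.card], fun g hg k => e.symm.injective ?_,
    fun g => e.symm.injective ?_, fun g k => e.symm.injective ?_, ?_, fun c hc => ?_,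
    fun x hx a b ha hb => e.symm.injective ?_, fun x hx => ?_⟩
  · rw [map_mul, map_mul]; exact h.central _ (hsq g hg) _
  · simp only [map_mul, map_one]; exact h.sq_sq _
  · simp only [map_mul, map_inv, map_one]; exact h.comm_sq _ _
  · rw [← h.card_inv]
    exact Nat.card_congr (e.symm.toEquiv.subtypeEquiv fun g => by
      show g * g = 1 ↔ e.symm g * e.symm g = 1
      rw [← map_mul, map_eq_one_iff _ e.symm.injective])
  · obtain ⟨g, hg⟩ := h.exists_sqrt _ (hsq c hc)
    exact ⟨e g, by rw [← map_mul, hg, e.apply_symm_apply]⟩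
  · rw [map_mul, map_mul]
    exact h.cent _ (hsq' x hx) _ _ (by rw [← map_mul, ha, map_mul]) (by rw [← map_mul, hb, map_mul])
  · rw [← h.cent_card _ (hsq' x hx)]
    exact Nat.card_congr (e.symm.toEquiv.subtypeEquiv fun g => by
      show g * x = x * g ↔ e.symm g * e.symm x = e.symm x * e.symm g
      rw [← map_mul, ← map_mul, e.symm.injective.eq_iff])

open CfsgLib.Unitary CfsgLib.SUThreeSylowAut

/-- The facts hold for a group with coordinates. -/
theorem facts_of_model {T : Type*} [Group T] {F : Type*} [Field F] [Finite F] [CharP F 2]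
    {q n : ℕ} (hF : Nat.card F = q ^ 2) (hn : n ≠ 0) (hq : q = 2 ^ n) (M : Model T F q) :
    Facts T n := by
  classical
  have hq0 : q ≠ 0 := by rw [hq]; positivity
  have hNK := CfsgLib.Invol.U3Center.norm_fixed hF
  have hφ1 : M.φ 1 = 0 := by
    have := M.φ_mul 1 1
    rwa [mul_one, left_eq_add] at this
  have hι1 : M.ι 1 = 0 := by
    have := M.ι_mul 1 1
    rwa [mul_one, hφ1, zero_mul, add_zero, left_eq_add] at this
  have hinv : ∀ x, M.φ x⁻¹ = M.φ x := fun x => by
    have := M.φ_mul x⁻¹ x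
    rw [inv_mul_cancel, hφ1] at this
    exact CharTwo.add_eq_zero.1 this.symm
  have hιK : ∀ z, M.φ z = 0 → M.ι z ^ q = M.ι z := fun z hz => by
    have := M.cond z
    rw [hz, zero_pow (Nat.succ_ne_zero q), add_zero] at this
    exact (CharTwo.add_eq_zero.1 this).symm
  have hcomm : ∀ g h : T, g * h = h * g ↔ M.φ h * M.φ g ^ q = M.φ g * M.φ h ^ q := fun g h => by
    refine ⟨fun e => ?_, fun e => M.eq_of _ _ (by rw [M.φ_mul, M.φ_mul, add_comm]) (by
      rw [M.ι_mul, M.ι_mul, e]; ring)⟩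
    have := congrArg M.ι e
    rw [M.ι_mul, M.ι_mul] at this
    linear_combination this
  have hsq : ∀ x, M.φ (x * x) = 0 ∧ M.ι (x * x) = M.φ x ^ (q + 1) := fun x =>
    ⟨by rw [M.φ_mul, CharTwo.add_self_eq_zero], by
      rw [M.ι_mul, CharTwo.add_self_eq_zero, zero_add, ← pow_succ']⟩
  have h0 : ∀ g : T, g * g = 1 ↔ M.φ g = 0 := fun g => by
    refine ⟨fun e => ?_, fun e => M.eq_of _ _ (by rw [(hsq g).1, hφ1]) (by
      rw [(hsq g).2, e, zero_pow (Nat.succ_ne_zero q), hι1])⟩
    have := (hsq g).2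
    rw [e, hι1] at this
    exact (pow_eq_zero_iff (Nat.succ_ne_zero q)).1 this.symm
  have hroot : ∀ w : F, ∃ x, M.φ x = w := fun w => by
    obtain ⟨s, hs⟩ := exists_root hF (hNK w)
    obtain ⟨x, hx, -⟩ := M.surj w s hs
    exact ⟨x, hx⟩
  choose sec hsec using hroot
  have hcard : Nat.card {g : T // g * g = 1} = q := by
    refine (Nat.card_congr (Equiv.ofBijective
      (fun g => (⟨M.ι g.1, hιK _ ((h0 _).1 g.2)⟩ : {x : F // x ^ q = x}))
      ⟨fun a b e => Subtype.ext (M.eq_of _ _ (((h0 _).1 a.2).trans ((h0 _).1 b.2).symm)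
        (congrArg Subtype.val e)), fun c => ?_⟩)).trans (CfsgLib.Invol.U3Center.card_fixed hF)
    obtain ⟨z, hz, hzc⟩ := M.surj 0 c.1 (by
      rw [c.2, CharTwo.add_self_eq_zero, zero_pow (Nat.succ_ne_zero q), add_zero])
    exact ⟨⟨z, (h0 z).2 hz⟩, Subtype.ext hzc⟩
  have hFT : Nat.card T = q ^ 3 := by
    have e : T ≃ F × {g : T // g * g = 1} :=
      { toFun := fun g => (M.φ g, ⟨(sec (M.φ g))⁻¹ * g, (h0 _).2 (by
          rw [M.φ_mul, hinv, hsec, CharTwo.add_self_eq_zero])⟩)
        invFun := fun p => sec p.1 * p.2.1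
        left_inv := fun g => mul_inv_cancel_left _ _
        right_inv := fun p => by
          have h : M.φ (sec p.1 * p.2.1) = p.1 := by rw [M.φ_mul, hsec, (h0 _).1 p.2.2, add_zero]
          exact Prod.ext h (Subtype.ext (by simp only [h, inv_mul_cancel_left])) }
    rw [Nat.card_congr e, Nat.card_prod, hcard, hF]; ring
  refine ⟨by rw [hFT, hq], fun g hg h => (hcomm g h).2 ?_, fun g => (h0 _).2 (hsq g).1,
    fun g h => (h0 _).2 ?_, by rw [hcard, hq], fun c hc => ?_, fun x hx a b ha hb => ?_,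
    fun x hx => ?_⟩
  · rw [(h0 g).1 hg, zero_pow hq0, mul_zero, zero_mul]
  · simp only [M.φ_mul, hinv]
    linear_combination CharTwo.add_self_eq_zero (M.φ g + M.φ h)
  · obtain ⟨w, hw⟩ := exists_norm_eq hF (hιK c ((h0 c).1 hc))
    exact ⟨sec w, M.eq_of _ _ (by rw [(hsq _).1, (h0 c).1 hc]) (by rw [(hsq _).2, hsec, hw])⟩
  · have hw : M.φ x ≠ 0 := fun e => hx ((h0 x).2 e)
    refine (hcomm a b).2 (mul_right_cancel₀ hw ?_)
    linear_combination M.φ b * (hcomm a x).1 ha - M.φ a * (hcomm b x).1 hb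
  · have hw : M.φ x ≠ 0 := fun e => hx ((h0 x).2 e)
    have hfix : ∀ g : T, g * x = x * g → (M.φ g / M.φ x) ^ q = M.φ g / M.φ x := fun g hg => by
      have h := (hcomm g x).1 hg
      rw [div_pow, div_eq_div_iff (pow_ne_zero _ hw) hw]
      linear_combination h
    let e : {g : T // g * x = x * g} ≃ {c : F // c ^ q = c} × {g : T // g * g = 1} :=
      { toFun := fun g => (⟨_, hfix g.1 g.2⟩, ⟨(sec (M.φ g.1 / M.φ x * M.φ x))⁻¹ * g.1, (h0 _).2 (by
          rw [M.φ_mul, hinv, hsec, div_mul_cancel₀ _ hw, CharTwo.add_self_eq_zero])⟩)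
        invFun := fun p => ⟨sec (p.1.1 * M.φ x) * p.2.1, (hcomm _ x).2 (by
          rw [M.φ_mul, hsec, (h0 _).1 p.2.2, add_zero, mul_pow, p.1.2]; ring)⟩
        left_inv := fun g => Subtype.ext (mul_inv_cancel_left _ _)
        right_inv := fun p => by
          have h : M.φ (sec (p.1.1 * M.φ x) * p.2.1) = p.1.1 * M.φ x := by
            rw [M.φ_mul, hsec, (h0 _).1 p.2.2, add_zero]
          exact Prod.ext (Subtype.ext (by simp only [h, mul_div_cancel_right₀ _ hw]))
            (Subtype.ext (by simp only [h, mul_div_cancel_right₀ _ hw, inv_mul_cancel_left])) }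
    rw [Nat.card_congr e, Nat.card_prod, CfsgLib.Invol.U3Center.card_fixed hF, hcard, hq]
    ring

/-- The Sylow 2-subgroups of `PSU₃(2^n)`. -/
theorem facts_psu {F : Type*} [Field F] [Finite F] [CharP F 2] {n : ℕ} (hn : n ≠ 0)
    (hF : Nat.card F = (2 ^ n) ^ 2) (P : Sylow 2 (Cfsg.PSU 3 F (2 ^ n))) :
    Facts ↥(P : Subgroup (Cfsg.PSU 3 F (2 ^ n))) n := by
  obtain ⟨R⟩ := (inferInstance : Nonempty (Sylow 2 (Cfsg.SU 3 F (2 ^ n))))
  obtain ⟨e⟩ := CfsgLib.AlphaRho.psu_sylow_equiv hF hn rfl R P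
  obtain ⟨M⟩ := nonempty_model hF hn rfl R
  exact facts_of_model hF hn rfl (M.pull e)

end CfsgLib.U3Type
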