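import Cfsg.Agent.U3Type.Syl
import Cfsg.Agent.Bender.StructureMain
import Mathlib.GroupTheory.Transfer

/-!
General lemmas: the odd core of a centralizer, odd parts over a central 2-subgroup, odd subgroups
normalized by part of a normal Sylow 2-subgroup, and a criterion for strongly embedded subgroups.
-/

set_option autoImplicit false
set_option linter.unusedSectionVars false
set_option linter.style.haveILetI false

namespace CfsgLib.U3Type

open Subgroup
open scoped Pointwise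

universe u

variable {G : Type u} [Group G] [Finite G]

/-- An automorphism of odd order of a Sylow group fixing a centralizer pointwise is trivial. -/
theorem Facts.aut_fix {T : Type*} [Group T] {n : ℕ} (h : Facts T n) {x : T}
    (α : MulAut T) {k : ℕ} (hk : Odd k) (hαk : α ^ k = 1)
    (hfix : ∀ p, p * x = x * p → α p = p) : α = 1 := by
  refine MulEquiv.ext fun s => ?_
  set w := s⁻¹ * α s with hw
  have hαs : α s = s * w := by rw [hw, mul_inv_cancel_left]
  have hwp : ∀ p, p * x = x * p → w * p = p * w := fun p hp => by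
    have hc := h.comm_sq s p
    have h1 : α (s * p * s⁻¹ * p⁻¹) = s * p * s⁻¹ * p⁻¹ := hfix _ (h.central _ hc x)
    rw [map_mul, map_mul, map_mul, map_inv, map_inv, hfix p hp, hαs, mul_left_inj, mul_inv_rev] at h1
    have h2 : s * (w * p * w⁻¹) * s⁻¹ = s * p * s⁻¹ := by rw [← h1]; group
    exact mul_inv_eq_iff_eq_mul.1 (mul_left_cancel (mul_right_cancel h2))
  have hwx : w * x = x * w := hwp x rfl
  have hpow : ∀ j : ℕ, (α ^ j) s = s * w ^ j := by
    intro j
    induction j with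
    | zero => rw [pow_zero, pow_zero, mul_one, MulAut.one_apply]
    | succ j ih => rw [pow_succ, MulAut.mul_apply, hαs, map_mul, ih, mul_assoc,
        show (α ^ j) w = w from by
          clear ih
          induction j with
          | zero => rfl
          | succ j ih => rw [pow_succ, MulAut.mul_apply, hfix w hwx, ih],
        pow_succ]
  have hwk : w ^ k = 1 := by simpa [hαk] using (hpow k).symm
  have hw4 : w ^ 4 = 1 := by
    rw [show (4 : ℕ) = 2 * 2 from rfl, pow_mul, sq, sq, h.sq_sq]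
  have hw1 : w = 1 := orderOf_eq_one_iff.1 (Nat.eq_one_of_dvd_coprimes
    ((Nat.coprime_two_left.2 hk).pow_left 2) (orderOf_dvd_of_pow_eq_one (n := 2 ^ 2) hw4)
    (orderOf_dvd_of_pow_eq_one hwk))
  rw [hαs, hw1, mul_one, MulAut.one_apply]

/-- An element of 2-power order in a group of odd order is trivial. -/
theorem eq_one_of_mem_odd {K : Subgroup G} (hK : Odd (Nat.card K)) {g : G} (hg : g ∈ K) {i : ℕ}
    (hi : g ^ 2 ^ i = 1) : g = 1 :=
  Bender.Consumers.eq_one_of_two_of_odd (hK.of_dvd_nat (orderOf_dvd_natCard _ hg)) hi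

/-- A subgroup consisting of elements of odd order has odd order. -/
theorem odd_card_of_orderOf {K : Subgroup G} (h : ∀ g ∈ K, Odd (orderOf g)) :
    Odd (Nat.card K) := by
  by_contra hev
  obtain ⟨t, ht⟩ := exists_prime_orderOf_dvd_card' (G := K) 2 (hp := ⟨Nat.prime_two⟩)
    (even_iff_two_dvd.1 (Nat.not_odd_iff_even.1 hev))
  have h2 := h t t.2
  rw [Subgroup.orderOf_coe, ht] at h2
  exact absurd h2 (by decide)

/-- Over a central 2-subgroup of odd index the elements of odd order are closed under products. -/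
theorem odd_mul_of_central {Z : Subgroup G} (hZc : ∀ z ∈ Z, ∀ g : G, z * g = g * z)
    (hZ : IsPGroup 2 Z) (hodd : Odd Z.index) {a b : G} (ha : Odd (orderOf a))
    (hb : Odd (orderOf b)) : Odd (orderOf (a * b)) := by
  letI : CommGroup Z :=
    { (inferInstance : Group Z) with mul_comm := fun x y => Subtype.ext (hZc x x.2 y) }
  have key : ∀ (g : G) (k : ℕ) (g₀ : G), g₀⁻¹ * g ^ k * g₀ ∈ Z → g₀⁻¹ * g ^ k * g₀ = g ^ k := by
    intro g k g₀ hg
    have h := hZc _ hg g₀⁻¹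
    rw [← mul_left_inj g₀⁻¹]
    calc g₀⁻¹ * g ^ k * g₀ * g₀⁻¹ = g₀⁻¹ * g ^ k := mul_inv_cancel_right _ _
      _ = g ^ k * g₀⁻¹ := by
        have h' : g₀⁻¹ * (g₀⁻¹ * g ^ k * g₀) * g₀ = g₀⁻¹ * g ^ k * g₀ := by
          rw [← h, inv_mul_cancel_right]
        have h'' : g₀⁻¹ * g ^ k * g₀ = g ^ k := by
          have := congrArg (fun y => g₀ * y * g₀⁻¹) h'
          simpa [mul_assoc] using this
        calc g₀⁻¹ * g ^ k = g₀⁻¹ * g ^ k * g₀ * g₀⁻¹ := (mul_inv_cancel_right _ _).symm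
          _ = g ^ k * g₀⁻¹ := by rw [h'']
  let τ := MonoidHom.transfer (MonoidHom.id Z)
  have hτ : ∀ g : G, (τ g : G) = g ^ Z.index := fun g =>
    congrArg Subtype.val (MonoidHom.transfer_eq_pow (MonoidHom.id Z) g (key g))
  have h1 : ∀ g : G, Odd (orderOf g) → τ g = 1 := fun g hg => by
    obtain ⟨i, hi⟩ := hZ (τ g)
    refine Subtype.ext ?_
    show (τ g : G) = 1
    refine Bender.Consumers.eq_one_of_two_of_odd (i := i) ?_ (congrArg Subtype.val hi :)
    rw [hτ]
    exact hg.of_dvd_nat (orderOf_pow_dvd _)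
  have h2 := hτ (a * b)
  rw [map_mul, h1 a ha, h1 b hb, mul_one, OneMemClass.coe_one] at h2
  exact hodd.of_dvd_nat (orderOf_dvd_of_pow_eq_one h2.symm)

/-- The odd core of the centralizer of an element. -/
def core (a : G) : Subgroup G :=
  (Cfsg.oddCore ↥(centralizer ({a} : Set G))).map (centralizer ({a} : Set G)).subtype

theorem core_le (a : G) : core a ≤ centralizer {a} := map_subtype_le _

theorem odd_core (a : G) : Odd (Nat.card (core a)) := Bender.NormalPart.odd_coreMap _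

theorem conj_mem_core {a c d : G} (hc : c ∈ centralizer ({a} : Set G)) (hd : d ∈ core a) :
    c * d * c⁻¹ ∈ core a := by
  obtain ⟨k, hk, rfl⟩ := hd
  exact ⟨⟨c, hc⟩ * k * ⟨c, hc⟩⁻¹,
    (inferInstance : (Cfsg.oddCore ↥(centralizer ({a} : Set G))).Normal).conj_mem k hk _, rfl⟩

theorem le_core {a : G} {D : Subgroup G} (hD : D ≤ centralizer {a}) (hodd : Odd (Nat.card D))
    (hn : ∀ c ∈ centralizer ({a} : Set G), ∀ d ∈ D, c * d * c⁻¹ ∈ D) : D ≤ core a := by
  intro d hd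
  refine ⟨⟨d, hD hd⟩, Bender.Core.le_oddCore (X := D.subgroupOf _)
    ⟨fun k hk c => hn c c.2 k hk⟩ ?_ hd, rfl⟩
  rwa [Nat.card_congr (subgroupOfEquivOfLe hD).toEquiv]

theorem core_conj_le (g a : G) : (core a).map (MulAut.conj g).toMonoidHom ≤ core (g * a * g⁻¹) := by
  refine le_core ?_ ?_ ?_
  · rintro _ ⟨d, hd, rfl⟩
    rw [mem_centralizer_singleton_iff]
    show g * d * g⁻¹ * (g * a * g⁻¹) = g * a * g⁻¹ * (g * d * g⁻¹)
    calc g * d * g⁻¹ * (g * a * g⁻¹) = g * (d * a) * g⁻¹ := by group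
      _ = g * (a * d) * g⁻¹ := by rw [mem_centralizer_singleton_iff.1 (core_le a hd)]
      _ = g * a * g⁻¹ * (g * d * g⁻¹) := by group
  · rw [card_map_of_injective (f := (MulAut.conj g).toMonoidHom) (MulAut.conj g).injective]
    exact odd_core a
  · rintro c hc _ ⟨d, hd, rfl⟩
    have hc' : g⁻¹ * c * g ∈ centralizer ({a} : Set G) := by
      rw [mem_centralizer_singleton_iff]
      calc g⁻¹ * c * g * a = g⁻¹ * (c * (g * a * g⁻¹)) * g := by group
        _ = g⁻¹ * (g * a * g⁻¹ * c) * g := by rw [mem_centralizer_singleton_iff.1 hc]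
        _ = a * (g⁻¹ * c * g) := by group
    refine ⟨g⁻¹ * c * g * d * (g⁻¹ * c * g)⁻¹, conj_mem_core hc' hd, ?_⟩
    show g * (g⁻¹ * c * g * d * (g⁻¹ * c * g)⁻¹) * g⁻¹ = c * (g * d * g⁻¹) * c⁻¹
    group

/-- An element normalizing a subgroup is an element of it times one normalizing its Sylow group. -/
theorem exists_mul_normalizer {C T : Subgroup G} (hTC : T ≤ C) (hT : IsPGroup 2 T)
    (hmax : ∀ Q : Subgroup G, IsPGroup 2 Q → Q ≤ C → T ≤ Q → Q = T) {g : G}
    (hg : g ∈ normalizer (C : Set G)) :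
    ∃ c ∈ C, ∃ m ∈ normalizer (T : Set G), g = c * m := by
  haveI : Fact (Nat.Prime 2) := ⟨Nat.prime_two⟩
  have hT' : IsPGroup 2 (T.subgroupOf C) := fun k => by
    obtain ⟨i, hi⟩ := hT ⟨k.1, k.2⟩
    exact ⟨i, Subtype.ext (Subtype.ext (congrArg Subtype.val hi :))⟩
  let P : Sylow 2 C := ⟨T.subgroupOf C, hT', fun {Q} hQ hle => by
    have h := hmax (Q.map C.subtype) (hQ.map _) (map_subtype_le Q) fun t ht =>
      ⟨⟨t, hTC ht⟩, hle ht, rfl⟩
    exact le_antisymm (fun k hk => mem_subgroupOf.2 (by rw [← h]; exact ⟨k, hk, rfl⟩)) hle⟩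
  let T' : Subgroup G := T.map (MulAut.conj g).toMonoidHom
  have hT'C : T' ≤ C := by
    rintro _ ⟨t, ht, rfl⟩
    exact (mem_normalizer_iff.1 hg t).1 (hTC ht)
  have hT'p : IsPGroup 2 (T'.subgroupOf C) := fun k => by
    obtain ⟨i, hi⟩ := (hT.map (MulAut.conj g).toMonoidHom) ⟨k.1, k.2⟩
    exact ⟨i, Subtype.ext (Subtype.ext (congrArg Subtype.val hi :))⟩
  obtain ⟨Q, hQ⟩ := hT'p.exists_le_sylow
  obtain ⟨c, hc⟩ := MulAction.exists_smul_eq C Q P
  refine ⟨(c : G)⁻¹, inv_mem c.2, c * g, ?_, (inv_mul_cancel_left _ _).symm⟩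
  refine mem_normalizer_iff_map_conj_eq.2 (eq_of_le_of_card_ge ?_
    (card_map_of_injective (f := (MulAut.conj _).toMonoidHom) (MulAut.conj _).injective).ge)
  rintro _ ⟨t, ht, rfl⟩
  have h1 : (⟨g * t * g⁻¹, hT'C ⟨t, ht, rfl⟩⟩ : C) ∈ (Q : Subgroup C) := hQ ⟨t, ht, rfl⟩
  have h2 := Subgroup.smul_mem_pointwise_smul _ (MulAut.conj c) _ h1
  rw [← Sylow.coe_subgroup_smul, hc] at h2
  have h3 : (c : G) * (g * t * g⁻¹) * (c : G)⁻¹ ∈ T := h2
  show (c : G) * g * t * ((c : G) * g)⁻¹ ∈ T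
  rw [show (c : G) * g * t * ((c : G) * g)⁻¹ = (c : G) * (g * t * g⁻¹) * (c : G)⁻¹ by group]
  exact h3

/-- The join with a normal subgroup of odd order. -/
theorem odd_sup {N K : Subgroup G} [N.Normal] (hN : Odd (Nat.card N)) (hK : Odd (Nat.card K)) :
    Odd (Nat.card (N ⊔ K : Subgroup G)) := by
  refine (hN.mul hK).of_dvd_nat ?_
  rw [← relIndex_bot_left (N ⊔ K), ← relIndex_mul_relIndex ⊥ N (N ⊔ K) bot_le le_sup_left,
    relIndex_bot_left, relIndex_sup_left]
  exact mul_dvd_mul_left _ (relIndex_dvd_card _ _)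

/-- In a group `O(X) N(S)` the elements of odd order centralizing `S` lie in `O(X)`. -/
theorem mem_oddCore_of_centralizes (S : Sylow 2 G)
    (hdec : ∀ g : G, ∃ o ∈ Cfsg.oddCore G, ∃ m ∈ normalizer ((S : Subgroup G) : Set G), g = o * m)
    {m : G} (hm : Odd (orderOf m)) (hc : m ∈ centralizer ((S : Subgroup G) : Set G)) :
    m ∈ Cfsg.oddCore G := by
  haveI : Fact (Nat.Prime 2) := ⟨Nat.prime_two⟩
  set C := centralizer ((S : Subgroup G) : Set G) with hC
  set Z : Subgroup C := (S : Subgroup G).subgroupOf C with hZ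
  have hZc : ∀ z ∈ Z, ∀ g : C, z * g = g * z := fun z hz g =>
    Subtype.ext (mem_centralizer_iff.1 g.2 z hz)
  have hZp : IsPGroup 2 Z := fun k => by
    obtain ⟨i, hi⟩ := S.2 ⟨k.1, k.2⟩
    exact ⟨i, Subtype.ext (Subtype.ext (congrArg Subtype.val hi :))⟩
  have hodd : Odd Z.index := by
    by_contra hev
    haveI : Z.Normal := ⟨fun z hz g => by rw [← hZc z hz g, mul_inv_cancel_right]; exact hz⟩
    obtain ⟨k, hk⟩ := exists_prime_orderOf_dvd_card' (G := C ⧸ Z) 2
      (by rw [← index_eq_card]; exact even_iff_two_dvd.1 (Nat.not_odd_iff_even.1 hev))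
    obtain ⟨g, rfl⟩ := QuotientGroup.mk_surjective k
    obtain ⟨i, r, hr, hg⟩ := Nat.exists_eq_two_pow_mul_odd (orderOf_pos g).ne'
    have h2 : (g ^ r) ^ 2 ^ i = 1 := by rw [← pow_mul, mul_comm, ← hg, pow_orderOf_eq_one]
    have hmem : g ^ r ∈ Z := by
      have hz : IsPGroup 2 (zpowers ((g ^ r : C) : G)) := by
        obtain ⟨j, -, hj⟩ := (Nat.dvd_prime_pow Nat.prime_two).1
          (orderOf_dvd_of_pow_eq_one (congrArg Subtype.val h2 :))
        exact IsPGroup.of_card (n := j) (by rw [Nat.card_zpowers, hj])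
      have hn : zpowers ((g ^ r : C) : G) ≤ normalizer ((S : Subgroup G) : Set G) :=
        zpowers_le.2 (centralizer_le_normalizer _ (g ^ r).2)
      show ((g ^ r : C) : G) ∈ (S : Subgroup G)
      rw [← S.3 (hz.to_sup_of_normal_right' S.2 hn) le_sup_right]
      exact mem_sup_left (mem_zpowers _)
    have h3 : (QuotientGroup.mk g : C ⧸ Z) ^ r = 1 := by
      rw [← QuotientGroup.mk_pow]; exact (QuotientGroup.eq_one_iff _).2 hmem
    have h4 := orderOf_dvd_of_pow_eq_one h3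
    rw [hk] at h4
    exact Nat.not_even_iff_odd.2 hr (even_iff_two_dvd.2 h4)
  let K : Subgroup G :=
    { carrier := {g | g ∈ C ∧ Odd (orderOf g)}
      one_mem' := ⟨one_mem _, by rw [orderOf_one]; exact odd_one⟩
      mul_mem' := fun {a b} ha hb => ⟨mul_mem ha.1 hb.1, by
        have := odd_mul_of_central hZc hZp hodd (a := ⟨a, ha.1⟩) (b := ⟨b, hb.1⟩)
          (by rw [orderOf_mk]; exact ha.2) (by rw [orderOf_mk]; exact hb.2)
        rwa [MulMemClass.mk_mul_mk, orderOf_mk] at this⟩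
      inv_mem' := fun {a} ha => ⟨inv_mem ha.1, by rw [orderOf_inv]; exact ha.2⟩ }
  have hKn : normalizer ((S : Subgroup G) : Set G) ≤ normalizer (K : Set G) := fun g hg => by
    refine mem_normalizer_iff_map_conj_eq.2 (eq_of_le_of_card_ge ?_
      (card_map_of_injective (f := (MulAut.conj g).toMonoidHom) (MulAut.conj g).injective).ge)
    rintro _ ⟨k, hk, rfl⟩
    refine ⟨mem_centralizer_iff.2 fun s hs => ?_, ?_⟩
    · have hs' : g⁻¹ * s * g ∈ (S : Subgroup G) := by
        simpa using (mem_normalizer_iff.1 (inv_mem hg) s).1 hs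
      have h := mem_centralizer_iff.1 hk.1 _ hs'
      show s * (g * k * g⁻¹) = g * k * g⁻¹ * s
      calc s * (g * k * g⁻¹) = g * (g⁻¹ * s * g * k) * g⁻¹ := by group
        _ = g * (k * (g⁻¹ * s * g)) * g⁻¹ := by rw [h]
        _ = g * k * g⁻¹ * s := by group
    · show Odd (orderOf (g * k * g⁻¹))
      rw [Invol.orderOf_conj_eq]; exact hk.2
  set L := Cfsg.oddCore G ⊔ K with hL
  have hLn : L.Normal := by
    rw [← normalizer_eq_top_iff, eq_top_iff]
    intro g _
    obtain ⟨o, ho, n, hn, rfl⟩ := hdec g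
    refine mul_mem (le_normalizer (mem_sup_left ho : o ∈ L)) ?_
    refine mem_normalizer_iff_map_conj_eq.2 ?_
    rw [hL, Subgroup.map_sup, mem_normalizer_iff_map_conj_eq.1 (hKn hn)]
    congr 1
    exact mem_normalizer_iff_map_conj_eq.1 (by rw [normalizer_eq_top]; exact mem_top n)
  have hLodd : Odd (Nat.card L) := odd_sup IsoApps.odd_oddCore (odd_card_of_orderOf fun g hg => hg.2)
  exact Bender.Core.le_oddCore hLn hLodd (mem_sup_right (show m ∈ K from ⟨hc, hm⟩))

/-- An odd subgroup normalized by a rigid 2-subgroup lies in `O(X)` when `X = O(X) N(S)`. -/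
theorem le_oddCore_of_inv (S : Sylow 2 G) {Q D : Subgroup G} (hQS : Q ≤ S)
    (hdec : ∀ g : G, ∃ o ∈ Cfsg.oddCore G, ∃ m ∈ normalizer ((S : Subgroup G) : Set G), g = o * m)
    (hrig : ∀ m ∈ normalizer ((S : Subgroup G) : Set G), Odd (orderOf m) →
      (∀ p ∈ Q, m * p = p * m) → m ∈ centralizer ((S : Subgroup G) : Set G))
    (hodd : Odd (Nat.card D)) (hn : ∀ p ∈ Q, ∀ d ∈ D, p * d * p⁻¹ ∈ D) :
    D ≤ Cfsg.oddCore G := by
  intro d hd
  obtain ⟨o, ho, m, hm, rfl⟩ := hdec d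
  set L := Cfsg.oddCore G ⊔ D with hL
  have hLodd : Odd (Nat.card L) := odd_sup IsoApps.odd_oddCore hodd
  have hmL : m ∈ L := by
    simpa using mul_mem (inv_mem (mem_sup_left ho : o ∈ L)) (mem_sup_right hd : o * m ∈ L)
  have hmc : ∀ p ∈ Q, m * p = p * m := fun p hp => by
    have hpL : p * m * p⁻¹ ∈ L := by
      rw [show p * m * p⁻¹ = (p * o * p⁻¹)⁻¹ * (p * (o * m) * p⁻¹) by group]
      exact mul_mem (inv_mem (mem_sup_left
        ((inferInstance : (Cfsg.oddCore G).Normal).conj_mem o ho p)))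
        (mem_sup_right (hn p hp _ hd))
    have h1 : p * m * p⁻¹ * m⁻¹ ∈ L := mul_mem hpL (inv_mem hmL)
    have h2 : p * m * p⁻¹ * m⁻¹ ∈ (S : Subgroup G) := by
      rw [mul_assoc p m, mul_assoc p]
      exact mul_mem (hQS hp) ((mem_normalizer_iff.1 hm p⁻¹).1 (inv_mem (hQS hp)))
    obtain ⟨i, hi⟩ := S.2 ⟨_, h2⟩
    exact (mul_inv_eq_iff_eq_mul.1 (mul_inv_eq_one.1
      (eq_one_of_mem_odd hLodd h1 (congrArg Subtype.val hi :)))).symm
  have hmo : Odd (orderOf m) := hLodd.of_dvd_nat (orderOf_dvd_natCard _ hmL)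
  exact mul_mem ho (mem_oddCore_of_centralizes S hdec hmo (hrig m hm hmo hmc))

/-- A proper subgroup containing `N(S)` and the centralizers of the involutions of `S` is
strongly embedded. -/
theorem stronglyEmbedded_of {M : Subgroup G} (S : Sylow 2 G) (hne : M ≠ ⊤)
    (hN : normalizer ((S : Subgroup G) : Set G) ≤ M) (hev : ∃ s ∈ (S : Subgroup G), orderOf s = 2)
    (hC : ∀ s ∈ (S : Subgroup G), orderOf s = 2 → centralizer ({s} : Set G) ≤ M) :
    Cfsg.IsStronglyEmbedded M := by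
  haveI : Fact (Nat.Prime 2) := ⟨Nat.prime_two⟩
  have hSM : (S : Subgroup G) ≤ M := le_normalizer.trans hN
  -- every 2-subgroup of `M` is conjugate into `S` inside `M`
  have hconj : ∀ Q : Subgroup G, Q ≤ M → IsPGroup 2 Q →
      ∃ m ∈ M, ∀ x ∈ Q, m * x * m⁻¹ ∈ (S : Subgroup G) := fun Q hQM hQ => by
    have hQ' : IsPGroup 2 (Q.subgroupOf M) := fun k => by
      obtain ⟨i, hi⟩ := hQ ⟨k.1, k.2⟩
      exact ⟨i, Subtype.ext (Subtype.ext (congrArg Subtype.val hi :))⟩
    obtain ⟨R, hR⟩ := hQ'.exists_le_sylow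
    obtain ⟨m, hm⟩ := MulAction.exists_smul_eq M R (S.subtype hSM)
    refine ⟨m, m.2, fun x hx => ?_⟩
    have h1 : (⟨x, hQM hx⟩ : M) ∈ (R : Subgroup M) := hR hx
    have h2 := Subgroup.smul_mem_pointwise_smul _ (MulAut.conj m) _ h1
    rw [← Sylow.coe_subgroup_smul, hm, Sylow.coe_subtype] at h2
    exact h2
  have hCM : ∀ s ∈ M, orderOf s = 2 → centralizer ({s} : Set G) ≤ M := fun s hs ho c hc => by
    obtain ⟨m, hm, hmS⟩ := hconj (zpowers s) (zpowers_le.2 hs)
      (IsPGroup.of_card (n := 1) (by rw [Nat.card_zpowers, ho, pow_one]))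
    have h := hC _ (hmS s (mem_zpowers s)) (by rw [Invol.orderOf_conj_eq, ho])
      (show m * c * m⁻¹ ∈ centralizer ({m * s * m⁻¹} : Set G) by
        rw [mem_centralizer_singleton_iff]
        calc m * c * m⁻¹ * (m * s * m⁻¹) = m * (c * s) * m⁻¹ := by group
          _ = m * (s * c) * m⁻¹ := by rw [mem_centralizer_singleton_iff.1 hc]
          _ = m * s * m⁻¹ * (m * c * m⁻¹) := by group)
    have := mul_mem (mul_mem (inv_mem hm) h) hm
    rwa [show m⁻¹ * (m * c * m⁻¹) * m = c by group] at this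
  obtain ⟨s₀, hs₀, hs₀2⟩ := hev
  refine ⟨hne, even_iff_two_dvd.2 (hs₀2 ▸ orderOf_dvd_natCard _ (hSM hs₀)),
    fun g hg => Nat.not_even_iff_odd.1 fun hev' => hg ?_⟩
  obtain ⟨w, ho⟩ := exists_prime_orderOf_dvd_card' 2 (even_iff_two_dvd.1 hev')
  rw [← orderOf_coe] at ho
  have hs : (w : G) ∈ M := w.2.1
  obtain ⟨v, hv, hvs⟩ := w.2.2
  have hgv : g * v * g⁻¹ = (w : G) := hvs
  generalize (w : G) = s at ho hs hgv
  -- centralizers of involutions of `M ∩ M^g`
  have hCg : ∀ z : G, orderOf z = 2 → g⁻¹ * z * g ∈ M → ∀ c ∈ centralizer ({z} : Set G),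
      g⁻¹ * c * g ∈ M := fun z hz hzM c hc => by
    refine hCM _ hzM (by simpa using (Invol.orderOf_conj_eq g⁻¹ z).trans hz) ?_
    rw [mem_centralizer_singleton_iff]
    calc g⁻¹ * c * g * (g⁻¹ * z * g) = g⁻¹ * (c * z) * g := by group
      _ = g⁻¹ * (z * c) * g := by rw [mem_centralizer_singleton_iff.1 hc]
      _ = g⁻¹ * z * g * (g⁻¹ * c * g) := by group
  obtain ⟨m, hm, hmS⟩ := hconj (zpowers s) (zpowers_le.2 hs)
    (IsPGroup.of_card (n := 1) (by rw [Nat.card_zpowers, ho, pow_one]))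
  -- `T = m⁻¹ S m` contains `s`; take an involution centralizing `T`
  haveI : Nontrivial (S : Subgroup G) := ⟨⟨⟨s₀, hs₀⟩, 1, fun e =>
    Invol.ne_one hs₀2 (congrArg Subtype.val e)⟩⟩
  haveI := S.2.center_nontrivial
  obtain ⟨l, hl⟩ := IsPGroup.iff_card.1 (S.2.to_subgroup (center (S : Subgroup G)))
  obtain ⟨z, hz⟩ := exists_prime_orderOf_dvd_card' (G := center (S : Subgroup G)) 2 (by
    rcases l with _ | l
    · rw [pow_zero] at hl
      exact absurd hl (ne_of_gt Finite.one_lt_card)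
    · exact hl ▸ dvd_pow_self 2 (Nat.succ_ne_zero l))
  set z' : G := m⁻¹ * ((z : (S : Subgroup G)) : G) * m with hz'def
  have hz'o : orderOf z' = 2 := by
    rw [hz'def, show m⁻¹ * ((z : (S : Subgroup G)) : G) * m =
      m⁻¹ * ((z : (S : Subgroup G)) : G) * m⁻¹⁻¹ by rw [inv_inv], Invol.orderOf_conj_eq,
      orderOf_coe, orderOf_coe, hz]
  have hz'M : z' ∈ M := mul_mem (mul_mem (inv_mem hm) (hSM z.1.2)) hm
  have hT : ∀ t ∈ (S : Subgroup G), m⁻¹ * t * m ∈ centralizer ({z'} : Set G) := fun t ht => by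
    rw [mem_centralizer_singleton_iff, hz'def]
    have hc : ((z : (S : Subgroup G)) : G) * t = t * (z : (S : Subgroup G)) :=
      (congrArg Subtype.val (mem_center_iff.1 z.2 ⟨t, ht⟩) :).symm
    calc m⁻¹ * t * m * (m⁻¹ * ((z : (S : Subgroup G)) : G) * m)
        = m⁻¹ * (t * ((z : (S : Subgroup G)) : G)) * m := by group
      _ = m⁻¹ * (((z : (S : Subgroup G)) : G) * t) * m := by rw [hc]
      _ = m⁻¹ * ((z : (S : Subgroup G)) : G) * m * (m⁻¹ * t * m) := by group
  have hzs : z' ∈ centralizer ({s} : Set G) := by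
    have h := hT _ (hmS s (mem_zpowers s))
    rw [show m⁻¹ * (m * s * m⁻¹) * m = s by group, mem_centralizer_singleton_iff] at h
    exact mem_centralizer_singleton_iff.2 h.symm
  have hsg : g⁻¹ * s * g ∈ M := by
    rw [← hgv, show g⁻¹ * (g * v * g⁻¹) * g = v by group]; exact hv
  have hz'g := hCg s ho hsg z' hzs
  -- so `T` and `g⁻¹ T g` lie in `M`
  have hTg : ∀ t ∈ (S : Subgroup G), g⁻¹ * (m⁻¹ * t * m) * g ∈ M := fun t ht =>
    hCg z' hz'o hz'g _ (hT t ht)
  set U : Subgroup G := (S : Subgroup G).map (MulAut.conj (g⁻¹ * m⁻¹)).toMonoidHom with hU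
  obtain ⟨k, hk, hkS⟩ := hconj U (by
    rintro _ ⟨t, ht, rfl⟩
    simpa [MulAut.conj_apply, mul_assoc] using hTg t ht) (S.2.map _)
  have hN' : k * (g⁻¹ * m⁻¹) ∈ normalizer ((S : Subgroup G) : Set G) := by
    refine mem_normalizer_iff_map_conj_eq.2 (eq_of_le_of_card_ge ?_
      (card_map_of_injective (f := (MulAut.conj _).toMonoidHom) (MulAut.conj _).injective).ge)
    rintro _ ⟨t, ht, rfl⟩
    have := hkS _ ⟨t, ht, rfl⟩
    simpa [MulAut.conj_apply, mul_assoc] using this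
  have h := mul_mem (mul_mem (inv_mem hk) (hN hN')) hm
  rw [show k⁻¹ * (k * (g⁻¹ * m⁻¹)) * m = g⁻¹ by group] at h
  simpa using inv_mem h

end CfsgLib.U3Type
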