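import Cfsg.Agent.U3Type.Small
import Cfsg.Agent.Unitary.Simple
import Cfsg.Agent.OddLocal.SigmaBasic

/-!
Groups whose Sylow 2-subgroups are those of `PSU₃(2^n)`, `n ≥ 3`.
-/

set_option autoImplicit false
set_option linter.unusedSectionVars false
set_option linter.style.haveILetI false

namespace CfsgLib.U3Type

open Subgroup
open scoped Pointwise

universe u v

/-- The conclusion: `O(G) N(S)` or a unitary normal subgroup of odd index modulo `O(G)`. -/
def Concl (G : Type u) [Group G] (S : Sylow 2 G) (n : ℕ) (F : Type v) [Field F] [Fintype F] :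
    Prop :=
  (∀ g : G, ∃ o ∈ Cfsg.oddCore G, ∃ m ∈ normalizer ((S : Subgroup G) : Set G), g = o * m) ∨
    ∃ N : Subgroup (G ⧸ Cfsg.oddCore G), N.Normal ∧ Odd N.index ∧
      Nonempty (N ≃* Cfsg.PSU 3 F (2 ^ n))

variable {G : Type u} [Group G] [Finite G] {S : Sylow 2 G} {n : ℕ}

local notation "π" => QuotientGroup.mk' (center G)

/-- The step from the local structure. -/
theorem Hyp.main {F : Type v} [Field F] [Fintype F] (hF : Fintype.card F = (2 ^ n) ^ 2)
    (h : Hyp S n) : Concl G S n F := by
  haveI : Fact (Nat.Prime 2) := ⟨Nat.prime_two⟩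
  have hnormal : (S : Subgroup G).Normal → Concl G S n F := fun hS => Or.inl fun g =>
    ⟨1, one_mem _, g, by rw [normalizer_eq_top_iff.2 hS]; exact mem_top g, (one_mul g).symm⟩
  have hn8 : 2 ^ 3 ≤ 2 ^ n := Nat.pow_le_pow_right two_pos h.n_le
  have hout : Outcome S := by
    by_cases hc : 8 * Nat.card (center G) ≤ 2 ^ n
    · exact h.big hc
    · refine h.small ?_
      obtain ⟨k, hk⟩ := IsPGroup.iff_card.1 h.center_two
      rw [hk] at hc ⊢
      rw [show (8 : ℕ) = 2 ^ 3 from rfl, ← pow_add, Nat.pow_le_pow_iff_right one_lt_two] at hc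
      rw [show (4 : ℕ) = 2 ^ 2 from rfl, ← pow_add]
      exact Nat.pow_le_pow_right two_pos (by omega)
  rcases hout with hS | ⟨M, hM, hNS, hC⟩
  · exact hnormal hS
  -- `M` is strongly embedded in `G / Z(G)`
  set SH := S.mapSurjective (f := π) (QuotientGroup.mk'_surjective _) with hSH
  obtain ⟨x, hx, hx2⟩ := h.exists_x
  have hN : normalizer ((SH : Subgroup (G ⧸ center G)) : Set (G ⧸ center G)) ≤ M := by
    intro w hw
    obtain ⟨g, rfl⟩ := QuotientGroup.mk_surjective w
    refine hNS g (mem_normalizer_iff_map_conj_eq.2 (eq_of_le_of_card_ge ?_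
      (card_map_of_injective (f := (MulAut.conj g).toMonoidHom) (MulAut.conj g).injective).ge))
    rintro _ ⟨s, hs, rfl⟩
    obtain ⟨s', hs', hss⟩ : π (g * s * g⁻¹) ∈ (S : Subgroup G).map π := by
      rw [map_mul, map_mul, map_inv]
      exact (mem_normalizer_iff.1 hw (π s)).1 ⟨s, hs, rfl⟩
    have := mul_mem hs' (h.center_le (QuotientGroup.eq.1 hss))
    rwa [mul_inv_cancel_left] at this
  have hinv : ∀ y ∈ (S : Subgroup G), orderOf (π y) = 2 → y ∉ center G ∧ y * y ∈ center G :=
    fun y _ ho => ⟨fun hc => Invol.ne_one ho ((QuotientGroup.eq_one_iff y).2 hc),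
      (QuotientGroup.eq_one_iff _).1 (by
        show π (y * y) = 1
        rw [map_mul, Invol.mul_self_eq_one ho])⟩
  have hordπ : ∀ y : G, y ∉ center G → y * y ∈ center G → orderOf (π y) = 2 := fun y hy hy2 =>
    Invol.orderOf_eq_two (by rw [← map_mul]; exact (QuotientGroup.eq_one_iff _).2 hy2)
      fun e => hy ((QuotientGroup.eq_one_iff y).1 e)
  have hxx : x * x ∈ zs S := h.sq_mem_zs hx
  obtain ⟨y₀, hy₀S, hy₀⟩ : ∃ y ∈ (S : Subgroup G), y ∉ center G ∧ y * y ∈ center G := by
    by_cases hc : x * x ∈ center G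
    · exact ⟨x, hx, fun hh => hx2 (h.center_sq hh), hc⟩
    · exact ⟨x * x, mul_mem hx hx, hc, by rw [h.sq_sq hx]; exact one_mem _⟩
  have hse : Cfsg.IsStronglyEmbedded M := by
    refine stronglyEmbedded_of SH hM hN ⟨π y₀, ⟨y₀, hy₀S, rfl⟩, hordπ y₀ hy₀.1 hy₀.2⟩ ?_
    rintro _ ⟨y, hy, rfl⟩ ho
    exact hC y hy (hinv y hy ho).1 (hinv y hy ho).2
  by_cases hU : center G = ⊥
  swap
  · -- two classes of involutions
    exfalso
    obtain ⟨u, hu, hu1⟩ := (Subgroup.ne_bot_iff_exists_ne_one.1 hU) |> fun ⟨u, hu⟩ =>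
      (⟨u.1, u.2, fun e => hu (Subtype.ext e)⟩ : ∃ u ∈ center G, u ≠ 1)
    obtain ⟨r, hr⟩ := h.facts.exists_sqrt ⟨u, h.center_le hu⟩ (Subtype.ext (h.center_sq hu))
    have hru : (r : G) * r = u := congrArg Subtype.val hr
    obtain ⟨w, hwS, hwU, hw2, hwu⟩ : ∃ w ∈ (S : Subgroup G), w ∉ center G ∧ w * w ∈ center G ∧
        w * w ≠ u := by
      by_cases hE : ∃ e ∈ zs S, e ∉ center G
      · obtain ⟨e, he, heU⟩ := hE
        exact ⟨e, he.1, heU, by rw [(h.mem_zs.1 he).2]; exact one_mem _,
          by rw [(h.mem_zs.1 he).2]; exact hu1.symm⟩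
      push Not at hE
      obtain ⟨v, hv, hv1, hvu⟩ : ∃ v ∈ zs S, v ≠ 1 ∧ v ≠ u := by
        by_contra hno
        push Not at hno
        have h1 : Nat.card (zs S) ≤ Nat.card Bool := Nat.card_le_card_of_injective
          (fun a => @decide ((a : G) = 1) (Classical.propDecidable _)) fun a b e => by
            have hiff : (a : G) = 1 ↔ (b : G) = 1 := by
              have := (decide_eq_decide (p := (a : G) = 1) (q := (b : G) = 1)).1 e
              exact this
            refine Subtype.ext ?_
            by_cases ha : (a : G) = 1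
            · rw [ha, hiff.1 ha]
            · rw [hno _ a.2 ha, hno _ b.2 fun hb => ha (hiff.2 hb)]
        rw [h.card_zs, Nat.card_eq_fintype_card, Fintype.card_bool] at h1
        omega
      obtain ⟨w, hw⟩ := h.facts.exists_sqrt ⟨v, hv.1⟩ (Subtype.ext (h.mem_zs.1 hv).2)
      have hwv : (w : G) * w = v := congrArg Subtype.val hw
      exact ⟨w, w.2, fun hc => hv1 (hwv ▸ h.center_sq hc), hwv ▸ hE v hv, by rw [hwv]; exact hvu⟩
    obtain ⟨c, hc⟩ := isConj_iff.1 (StrongEmbed.isConj_of_invols hse (hordπ w hwU hw2)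
      (hordπ r (fun hh => hu1 (hru ▸ h.center_sq hh)) (hru ▸ hu)))
    obtain ⟨g, rfl⟩ := QuotientGroup.mk_surjective c
    set z := (r : G)⁻¹ * (g * w * g⁻¹) with hz
    have hzc : z ∈ center G := QuotientGroup.eq.1 (by
      show π (r : G) = π (g * w * g⁻¹)
      rw [map_mul, map_mul, map_inv]
      exact hc.symm)
    have hgw : g * w * g⁻¹ = (r : G) * z := by rw [hz, mul_inv_cancel_left]
    refine hwu ?_
    have h1 : g * (w * w) * g⁻¹ = u := by
      calc g * (w * w) * g⁻¹ = (g * w * g⁻¹) * (g * w * g⁻¹) := by group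
        _ = (r : G) * (z * r) * z := by rw [hgw]; group
        _ = (r : G) * ((r : G) * z) * z := by rw [← mem_center_iff.1 hzc (r : G)]
        _ = (r : G) * r * (z * z) := by group
        _ = u := by rw [h.center_sq hzc, mul_one, hru]
    calc w * w = g⁻¹ * (g * (w * w) * g⁻¹) * g := by group
      _ = g⁻¹ * (u * g) := by rw [h1, mul_assoc]
      _ = u := by rw [← mem_center_iff.1 hu g, inv_mul_cancel_left]
  -- the centre is trivial
  let e : G ≃* G ⧸ center G :=
    MulEquiv.ofBijective π ⟨by
      rw [← MonoidHom.ker_eq_bot_iff, QuotientGroup.ker_mk', hU], QuotientGroup.mk'_surjective _⟩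
  have hp : Bender.PairRank (G ⧸ center G) := by
    obtain ⟨a, ha, ha1, b, hb, hb1, hab⟩ : ∃ a ∈ zs S, a ≠ 1 ∧ ∃ b ∈ zs S, b ≠ 1 ∧ a ≠ b := by
      by_contra hno
      push Not at hno
      have h1 : Nat.card (zs S) ≤ Nat.card Bool := Nat.card_le_card_of_injective
        (fun a => @decide ((a : G) = 1) (Classical.propDecidable _)) fun a b e => by
          have hiff : (a : G) = 1 ↔ (b : G) = 1 := by
            have := (decide_eq_decide (p := (a : G) = 1) (q := (b : G) = 1)).1 e
            exact this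
          refine Subtype.ext ?_
          by_cases ha : (a : G) = 1
          · rw [ha, hiff.1 ha]
          · exact hno _ a.2 ha _ b.2 fun hb => ha (hiff.2 hb)
      rw [h.card_zs, Nat.card_eq_fintype_card, Fintype.card_bool] at h1
      omega
    have ho : ∀ c ∈ zs S, c ≠ 1 → orderOf (e c) = 2 := fun c hc hc1 => by
      rw [e.orderOf_eq]; exact Invol.orderOf_eq_two (h.mem_zs.1 hc).2 hc1
    exact ⟨e a, e b, ho a ha ha1, ho b hb hb1, fun hh => hab (e.injective hh),
      Commute.map (show Commute a b from h.central ha.1 (h.mem_zs.1 ha).2 hb.1) e.toMonoidHom⟩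
  obtain ⟨N, hNn, hNodd, ⟨ψ⟩⟩ := psu_of_se hse h.oddCore_quot hp SH
    (le_trans (by norm_num) h.n_le)
    (h.facts.congr (equivMapOfInjective (S : Subgroup G) π e.injective)) hF
  let q : G ⧸ center G ≃* G ⧸ Cfsg.oddCore G :=
    QuotientGroup.quotientMulEquivOfEq (hU.trans h.oddBot.symm)
  refine Or.inr ⟨N.map q.toMonoidHom, hNn.map _ q.surjective, ?_,
    ⟨(q.subgroupMap N).symm.trans ψ⟩⟩
  rw [index_map_of_bijective q.bijective]
  exact hNodd

/-- The induction. -/
theorem concl_all {n : ℕ} (hn : 3 ≤ n) {F : Type v} [Field F] [Fintype F]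
    (hF : Fintype.card F = (2 ^ n) ^ 2) : ∀ (k : ℕ) (G : Type u) [Group G] [Finite G],
      Nat.card G ≤ k → ∀ S : Sylow 2 G, Facts ↥(S : Subgroup G) n → Concl G S n F := by
  haveI : Fact (Nat.Prime 2) := ⟨Nat.prime_two⟩
  intro k
  induction k with
  | zero =>
    intro G _ _ hk
    exact absurd hk (not_le.2 Nat.card_pos)
  | succ k ih =>
    intro G _ _ hk S hS
    by_cases hO : Cfsg.oddCore G = ⊥
    · refine Hyp.main hF ⟨hn, hS, hO, fun e heS he2 heU c hc => ?_⟩
      set X := centralizer ({e} : Set G) with hX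
      have hSX : (S : Subgroup G) ≤ X := fun s hs => mem_centralizer_singleton_iff.2
        (congrArg Subtype.val (hS.central ⟨e, heS⟩ (Subtype.ext he2) ⟨s, hs⟩) :).symm
      have hlt : Nat.card X < Nat.card G := lt_of_le_of_ne (card_le_card_group X) fun he =>
        heU (mem_center_iff.2 fun g => mem_centralizer_singleton_iff.1
          ((eq_top_of_card_eq X he).symm ▸ mem_top g : g ∈ X))
      rcases ih X (by omega) (S.subtype hSX)
        (hS.congr (subgroupOfEquivOfLe hSX).symm) with hl | ⟨N, hNn, hNodd, ⟨ψ⟩⟩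
      · obtain ⟨o, ho, m, hm, hcm⟩ := hl ⟨c, hc⟩
        refine ⟨o, ⟨o, ho, rfl⟩, m, mem_normalizer_iff_map_conj_eq.2 (eq_of_le_of_card_ge ?_
          (card_map_of_injective (f := (MulAut.conj (m : G)).toMonoidHom)
            (MulAut.conj (m : G)).injective).ge), congrArg Subtype.val hcm⟩
        rintro _ ⟨s, hs, rfl⟩
        exact (mem_normalizer_iff.1 hm ⟨s, hSX hs⟩).1 hs
      · -- a central involution in a unitary group
        exfalso
        have he1 : e ≠ 1 := fun h1 => heU (h1 ▸ one_mem _)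
        set eX : X := ⟨e, hSX heS⟩ with heX
        set q := QuotientGroup.mk' (Cfsg.oddCore X)
        have hqe : q eX ≠ 1 := fun h1 => he1 (congrArg Subtype.val (eq_one_of_mem_odd
          IsoApps.odd_oddCore ((QuotientGroup.eq_one_iff eX).1 h1) (i := 1)
          (by rw [pow_one, sq]; exact Subtype.ext he2) : eX = 1))
        have hq2 : q eX * q eX = 1 := by
          rw [← map_mul, show eX * eX = 1 from Subtype.ext he2, map_one]
        haveI := hNn
        have hmem : q eX ∈ N := by
          refine (QuotientGroup.eq_one_iff _).1 (Bender.Consumers.eq_one_of_two_of_odd (i := 1) ?_ ?_)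
          · rw [index_eq_card] at hNodd
            exact hNodd.of_dvd_nat (_root_.orderOf_dvd_natCard _)
          · rw [pow_one, ← QuotientGroup.mk_pow, sq, hq2, QuotientGroup.mk_one]
        have hcen : ψ ⟨_, hmem⟩ ∈ center (Cfsg.PSU 3 F (2 ^ n)) := mem_center_iff.2 fun p => by
          obtain ⟨a, rfl⟩ := ψ.surjective p
          rw [← map_mul, ← map_mul]
          refine congrArg ψ (Subtype.ext ?_)
          obtain ⟨b, hb⟩ := QuotientGroup.mk_surjective (a : X ⧸ Cfsg.oddCore X)
          show (a : X ⧸ Cfsg.oddCore X) * q eX = q eX * a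
          rw [← hb]
          show q b * q eX = q eX * q b
          rw [← map_mul, ← map_mul, show b * eX = eX * b from
            Subtype.ext (mem_centralizer_singleton_iff.1 b.2)]
        haveI : IsSimpleGroup (Cfsg.PSU 3 F (2 ^ n)) := Unitary.isSimpleGroup_PSU
          (by rw [Nat.card_eq_fintype_card, hF]) le_rfl fun h32 => by
            have : 2 ^ 3 ≤ 2 ^ n := Nat.pow_le_pow_right two_pos hn
            omega
        rcases (inferInstance : (center (Cfsg.PSU 3 F (2 ^ n))).Normal).eq_bot_or_eq_top with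
          hb | ht
        · rw [hb, mem_bot, map_eq_one_iff ψ ψ.injective] at hcen
          exact hqe (congrArg Subtype.val hcen)
        · haveI : CharP F 2 := charP_of_card_eq_prime_pow (f := n * 2) (by rw [hF, pow_mul])
          obtain ⟨P⟩ : Nonempty (Sylow 2 (Cfsg.PSU 3 F (2 ^ n))) := inferInstance
          have hP := facts_psu (by omega) (by rw [Nat.card_eq_fintype_card, hF]) P
          obtain ⟨x, hx⟩ : ∃ x : ↥(P : Subgroup (Cfsg.PSU 3 F (2 ^ n))), x * x ≠ 1 := by
            by_contra hno
            push Not at hno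
            have h1 := hP.card_inv
            rw [Nat.card_congr (Equiv.subtypeUnivEquiv hno), hP.card, ← pow_mul] at h1
            have := Nat.pow_right_injective le_rfl h1
            omega
          have h1 := hP.cent_card x hx
          have h2 : ∀ g : ↥(P : Subgroup (Cfsg.PSU 3 F (2 ^ n))), g * x = x * g := fun g =>
            Subtype.ext (mem_center_iff.1 (show (x : Cfsg.PSU 3 F (2 ^ n)) ∈
              center (Cfsg.PSU 3 F (2 ^ n)) by rw [ht]; exact mem_top _) g)
          rw [Nat.card_congr (Equiv.subtypeUnivEquiv h2), hP.card,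
            ← pow_mul, ← pow_mul] at h1
          have := Nat.pow_right_injective le_rfl h1
          omega
    · -- pass to the quotient by the odd core
      set O := Cfsg.oddCore G with hOdef
      set p := QuotientGroup.mk' O
      set T := S.mapSurjective (f := p) (QuotientGroup.mk'_surjective _) with hT
      have hinj : Function.Injective (p.subgroupMap (S : Subgroup G)) := by
        refine (injective_iff_map_eq_one _).2 fun s hs => ?_
        obtain ⟨i, hi⟩ := S.2 s
        exact Subtype.ext (eq_one_of_mem_odd IsoApps.odd_oddCore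
          ((QuotientGroup.eq_one_iff (s : G)).1 (congrArg Subtype.val hs))
          (congrArg Subtype.val hi :))
      have hlt : Nat.card (G ⧸ O) < Nat.card G := by
        rw [card_eq_card_quotient_mul_card_subgroup O]
        exact lt_mul_of_one_lt_right Nat.card_pos ((Subgroup.one_lt_card_iff_ne_bot _).2 hO)
      have hOq : Cfsg.oddCore (G ⧸ O) = ⊥ := LocalB.oddCore_quotient
      rcases ih (G ⧸ O) (by omega) T
        (hS.congr (MulEquiv.ofBijective (p.subgroupMap (S : Subgroup G))
          ⟨hinj, p.subgroupMap_surjective _⟩)) with hl | ⟨N, hNn, hNodd, ⟨ψ⟩⟩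
      · have hTn : (T : Subgroup (G ⧸ O)).Normal := by
          rw [← normalizer_eq_top_iff, eq_top_iff]
          intro w _
          obtain ⟨o, ho, m, hm, rfl⟩ := hl w
          rw [hOq, mem_bot] at ho
          rwa [ho, one_mul]
        refine Or.inl fun g => ?_
        have hCn : (O ⊔ (S : Subgroup G)).Normal := by
          have h1 : O ⊔ (S : Subgroup G) = (T : Subgroup (G ⧸ O)).comap p := by
            show _ = ((S : Subgroup G).map p).comap p
            rw [comap_map_eq, QuotientGroup.ker_mk', sup_comm]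
          rw [h1]
          exact hTn.comap p
        obtain ⟨c, hc, m, hm, rfl⟩ := exists_mul_normalizer (C := O ⊔ (S : Subgroup G))
          (T := (S : Subgroup G)) le_sup_right S.2 (fun Q hQ _ hle => S.3 hQ hle) (g := g)
          (by rw [normalizer_eq_top_iff.2 hCn]; exact mem_top g)
        obtain ⟨o, ho, s, hs, rfl⟩ := mem_sup_of_normal_left.1 hc
        exact ⟨o, ho, s * m, mul_mem (le_normalizer hs) hm, mul_assoc _ _ _⟩
      · let q : (G ⧸ O) ⧸ Cfsg.oddCore (G ⧸ O) ≃* G ⧸ O :=
          (QuotientGroup.quotientMulEquivOfEq hOq).trans QuotientGroup.quotientBot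
        refine Or.inr ⟨N.map q.toMonoidHom, hNn.map _ q.surjective, ?_,
          ⟨(q.subgroupMap N).symm.trans ψ⟩⟩
        rw [index_map_of_bijective q.bijective]
        exact hNodd

/-- Sylow 2-subgroups of the type of `PSU₃(2^n)`, `n ≥ 3`. -/
theorem main {G : Type u} [Group G] [Finite G] {n : ℕ} (hn : 3 ≤ n) {F : Type v} [Field F]
    [Fintype F] (hF : Fintype.card F = 4 ^ n) (S : Sylow 2 G)
    (P : Sylow 2 (Cfsg.PSU 3 F (2 ^ n)))
    (hS : Nonempty (↥(S : Subgroup G) ≃* ↥(P : Subgroup (Cfsg.PSU 3 F (2 ^ n))))) :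
    (Group.IsSolvable G ∧ Cfsg.PLengthLE 2 1 G) ∨
      ∃ N : Subgroup (G ⧸ Cfsg.oddCore G), N.Normal ∧ Odd N.index ∧
        Nonempty (↥N ≃* Cfsg.PSU 3 F (2 ^ n)) := by
  haveI : Fact (Nat.Prime 2) := ⟨Nat.prime_two⟩
  have hF' : Fintype.card F = (2 ^ n) ^ 2 := by
    rw [hF, show (4 : ℕ) = 2 ^ 2 from rfl, ← pow_mul, ← pow_mul, mul_comm]
  haveI : CharP F 2 := charP_of_card_eq_prime_pow (f := n * 2) (by rw [hF', pow_mul])
  obtain ⟨e⟩ := hS
  have hf := (facts_psu (by omega) (by rw [Nat.card_eq_fintype_card, hF']) P).congr e.symm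
  rcases concl_all hn hF' (Nat.card G) G le_rfl S hf with hl | hr
  · refine Or.inl ?_
    set O := Cfsg.oddCore G
    set p := QuotientGroup.mk' O
    set T := S.mapSurjective (f := p) (QuotientGroup.mk'_surjective _) with hT
    haveI hTn : (T : Subgroup (G ⧸ O)).Normal := by
      rw [← normalizer_eq_top_iff, eq_top_iff]
      intro w _
      obtain ⟨g, rfl⟩ := QuotientGroup.mk_surjective w
      obtain ⟨o, ho, m, hm, rfl⟩ := hl g
      show p (o * m) ∈ _
      rw [map_mul, show p o = 1 from (QuotientGroup.eq_one_iff o).2 ho, one_mul]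
      refine mem_normalizer_iff_map_conj_eq.2 (eq_of_le_of_card_ge ?_
        (card_map_of_injective (f := (MulAut.conj (p m)).toMonoidHom) (MulAut.conj (p m)).injective).ge)
      rintro _ ⟨_, ⟨s, hs, rfl⟩, rfl⟩
      exact ⟨m * s * m⁻¹, (mem_normalizer_iff.1 hm s).1 hs, by simp⟩
    refine ⟨?_, OddLocal.Sig.pLengthLE_one_of_index ?_⟩
    · haveI : Group.IsSolvable O := Cfsg.Agent.S0205.result IsoApps.odd_oddCore
      haveI : Group.IsSolvable ((G ⧸ O) ⧸ (T : Subgroup (G ⧸ O))) := Cfsg.Agent.S0205.result (by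
        rw [← index_eq_card]
        exact Nat.not_even_iff_odd.1 fun h => T.not_dvd_index h.two_dvd)
      haveI : Group.IsNilpotent (T : Subgroup (G ⧸ O)) := T.2.isNilpotent
      haveI : Group.IsSolvable (T : Subgroup (G ⧸ O)) := IsNilpotent.to_isSolvable
      haveI : Group.IsSolvable (G ⧸ O) := Group.isSolvable_of_ker_le_range
        (T : Subgroup (G ⧸ O)).subtype (QuotientGroup.mk' (T : Subgroup (G ⧸ O)))
        (by rw [QuotientGroup.ker_mk', range_subtype])
      exact Group.isSolvable_of_ker_le_range O.subtype p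
        (by rw [QuotientGroup.ker_mk', range_subtype])
    · refine Nat.Coprime.coprime_dvd_left
        (index_dvd_of_le (comap_mono (f := p) (Solvable.le_pCore 2 hTn T.2))) ?_
      rw [index_comap_of_surjective _ (QuotientGroup.mk'_surjective _), Nat.coprime_comm,
        Nat.prime_two.coprime_iff_not_dvd]
      exact T.not_dvd_index
  · exact Or.inr hr

end CfsgLib.U3Type
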