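import Cfsg.Agent.U3Type.Basic
import Cfsg.Agent.Recog.RankOneSuzuki.Main
import Cfsg.Agent.PGU3Char.Congr

/-!
Strongly embedded subgroups through Bender's and Suzuki's theorems: an abelian Sylow 2-subgroup is
elementary, and one of unitary type leads to `PSU₃(2^n)`.
-/

set_option autoImplicit false
set_option linter.unusedSectionVars false
set_option linter.style.haveILetI false

namespace CfsgLib.U3Type

open Subgroup CfsgLib.Bender CfsgLib.Bender.GSide

universe u

variable {G : Type u} [Group G] [Finite G]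

/-- A group with a strongly embedded subgroup is a rank one group on the cosets. -/
theorem exists_rankOne {H : Subgroup G} (hse : Cfsg.IsStronglyEmbedded H)
    (hO : Cfsg.oddCore G = ⊥) (hp : PairRank G) :
    ∃ (P : Sylow 2 G) (Ω : Type u) (_ : MulAction G Ω) (_ : FaithfulSMul G Ω) (a : Ω) (t : G),
      Nonempty (Recog.RankOneSuzuki.Data a t (P : Subgroup G)) := by
  haveI : Fact (Nat.Prime 2) := ⟨Nat.prime_two⟩
  obtain ⟨T, hTH, hTn, hT2, htr⟩ := Consumers.structure_all G H hse hO hp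
  obtain ⟨s, hsH, hs⟩ := StrongEmbed.exists_invol hse
  have hsT : s ∈ T := Consumers.two_mem_of_shape hse hTH hTn htr hsH (i := 1)
    (by rw [pow_one, sq, Invol.mul_self_eq_one hs])
  have hmax : ∀ {Q : Subgroup G}, IsPGroup 2 Q → T ≤ Q → Q = T := fun {Q} hQ hle => by
    refine le_antisymm ?_ hle
    by_contra hne
    have hlt : T.subgroupOf Q < ⊤ := lt_top_iff_ne_top.2 fun h => hne (subgroupOf_eq_top.1 h)
    haveI : Group.IsNilpotent Q := hQ.isNilpotent
    obtain ⟨x, hxn, hxT⟩ := SetLike.exists_of_lt (Group.normalizerCondition_of_isNilpotent _ hlt)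
    have hxT' : (x : G) ∉ T := fun h => hxT h
    have hconj : (x : G) * s * (x : G)⁻¹ ∈ T :=
      mem_subgroupOf.1 ((mem_normalizer_iff.1 hxn ⟨s, hle hsT⟩).1 (mem_subgroupOf.2 hsT))
    have hxH : (x : G) ∈ H := by
      have h := StrongEmbed.mem_of_conj_mem hse (g := (x : G)⁻¹) hsH hs
        (by rw [inv_inv]; exact hTH hconj)
      simpa using inv_mem h
    obtain ⟨i, hi⟩ := hQ x
    exact hxT' (Consumers.two_mem_of_shape hse hTH hTn htr hxH (congrArg Subtype.val hi :))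
  let P : Sylow 2 G := ⟨T, hT2, fun hQ hle => hmax hQ hle⟩
  obtain ⟨g₁, hg₁⟩ := Consumers.exists_not_mem hse
  obtain ⟨t, ht, htg⟩ := StrongEmbed.exists_swap hse (x := (QuotientGroup.mk 1 : G ⧸ H))
    (y := g₁ • QuotientGroup.mk 1) fun h => hg₁ (StrongEmbed.smul_mk_one_iff.1 h.symm)
  have htH : t ∉ H := fun h => hg₁ (StrongEmbed.smul_mk_one_iff.1 (by
    rw [← htg, StrongEmbed.smul_mk_one_iff.2 h]))
  have hsetup := Recog.RankOneSuzuki.Coroll.setup_cosets H T t
    (Invol.mul_self_eq_one ht) htH hTH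
    (fun h hh x hx => (Subgroup.mem_normalizer_iff.1 (hTn hh) x).1 hx)
    (fun y hy => htr t y htH hy)
    (fun w hw h => Consumers.shape_free hse hTH hT2 htH hw h) (hse.2.2 t htH) hse.2.1
  haveI : FaithfulSMul G (G ⧸ H) := by
    have hcore : H.normalCore = ⊥ := by
      refine le_bot_iff.1 ((?_ : H.normalCore ≤ Cfsg.oddCore G).trans hO.le)
      refine Core.le_oddCore H.normalCore_normal ((hse.2.2 g₁ hg₁).of_dvd_nat
        (Subgroup.card_dvd_of_le fun y hy => ⟨H.normalCore_le hy, g₁⁻¹ * y * g₁,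
          H.normalCore_le (by simpa using H.normalCore_normal.conj_mem y hy g₁⁻¹),
          by simp [mul_assoc]⟩))
    rw [Subgroup.normalCore_eq_ker, MonoidHom.ker_eq_bot_iff] at hcore
    exact ⟨fun {a b} h => hcore (Equiv.ext h)⟩
  obtain ⟨u, v, hu, hv, hne, hcuv⟩ := id hp
  exact ⟨P, G ⧸ H, inferInstance, inferInstance, _, t,
    Recog.RankOneSuzuki.exists_data hsetup
      ⟨u, v, Invol.ne_one hu, Invol.ne_one hv, hne, Invol.mul_self_eq_one hu,
        Invol.mul_self_eq_one hv, hcuv.eq⟩⟩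

/-- An abelian Sylow 2-subgroup of a group with a strongly embedded subgroup is elementary. -/
theorem sq_of_se_abelian {H : Subgroup G} (hse : Cfsg.IsStronglyEmbedded H)
    (hO : Cfsg.oddCore G = ⊥) (hp : PairRank G) (S : Sylow 2 G)
    (hab : ∀ a ∈ (S : Subgroup G), ∀ b ∈ (S : Subgroup G), a * b = b * a) :
    ∀ g ∈ (S : Subgroup G), g * g = 1 := by
  haveI : Fact (Nat.Prime 2) := ⟨Nat.prime_two⟩
  obtain ⟨P, Ω, _, _, a, t, ⟨D⟩⟩ := exists_rankOne hse hO hp
  let e := P.equiv S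
  intro g hg
  have hcomm : ∀ x ∈ (P : Subgroup G), ∀ y ∈ (P : Subgroup G), x * y = y * x := fun x hx y hy => by
    have h : e ⟨x, hx⟩ * e ⟨y, hy⟩ = e ⟨y, hy⟩ * e ⟨x, hx⟩ :=
      Subtype.ext (hab _ (e ⟨x, hx⟩).2 _ (e ⟨y, hy⟩).2)
    rw [← map_mul, ← map_mul, e.injective.eq_iff] at h
    exact congrArg Subtype.val h
  obtain ⟨k, hk⟩ := e.surjective ⟨g, hg⟩
  have hkk : k * k = 1 := Subtype.ext ((D.mem_Z _).1 (D.le_Z_of_abelian hcomm k.2)).2
  have h := congrArg e hkk
  rw [map_mul, hk, map_one] at h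
  exact congrArg Subtype.val h

/-- A group with a strongly embedded subgroup and Sylow 2-subgroups of unitary type. -/
theorem psu_of_se {H : Subgroup G} (hse : Cfsg.IsStronglyEmbedded H)
    (hO : Cfsg.oddCore G = ⊥) (hp : PairRank G) (S : Sylow 2 G) {n : ℕ} (hn : 2 ≤ n)
    (hS : Facts ↥(S : Subgroup G) n) {F : Type*} [Field F] [Fintype F]
    (hF : Fintype.card F = (2 ^ n) ^ 2) :
    ∃ N : Subgroup G, N.Normal ∧ Odd N.index ∧ Nonempty (N ≃* Cfsg.PSU 3 F (2 ^ n)) := by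
  haveI : Fact (Nat.Prime 2) := ⟨Nat.prime_two⟩
  obtain ⟨P, Ω, _, _, a, t, ⟨D⟩⟩ := exists_rankOne hse hO hp
  have hP := hS.congr (S.equiv P)
  have hZ : Nat.card D.Z = 2 ^ n := by
    rw [← hP.card_inv]
    exact Nat.card_congr
      { toFun := fun k => ⟨⟨k.1, ((D.mem_Z _).1 k.2).1⟩, Subtype.ext ((D.mem_Z _).1 k.2).2⟩
        invFun := fun k => ⟨k.1.1, (D.mem_Z _).2 ⟨k.1.2, congrArg Subtype.val k.2⟩⟩
        left_inv := fun _ => rfl
        right_inv := fun _ => rfl }
  have hna : ∃ x ∈ (P : Subgroup G), ∃ y ∈ (P : Subgroup G), x * y ≠ y * x := by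
    by_contra hcomm
    push Not at hcomm
    have h := card_le_of_le (D.le_Z_of_abelian hcomm)
    rw [hP.card, hZ, ← pow_mul, Nat.pow_le_pow_iff_right one_lt_two] at h
    omega
  obtain ⟨L, hLn, hLodd, F₀, i₁, i₂, m, hm, hF₀, ⟨ψ⟩⟩ :=
    Recog.RankOneSuzuki.unitary_case D hna (by rw [hP.card, hZ])
  haveI := hLn
  have hPL : (P : Subgroup G) ≤ L := fun x hx => by
    obtain ⟨i, hi⟩ := P.2 ⟨x, hx⟩
    refine (QuotientGroup.eq_one_iff x).1 (Consumers.eq_one_of_two_of_odd (i := i) ?_ ?_)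
    · rw [Subgroup.index_eq_card] at hLodd
      exact hLodd.of_dvd_nat (_root_.orderOf_dvd_natCard _)
    · rw [← QuotientGroup.mk_pow, show x ^ 2 ^ i = 1 from congrArg Subtype.val hi,
        QuotientGroup.mk_one]
  haveI : CharP F₀ 2 := charP_of_card_eq_prime_pow (f := m * 2) (by rw [hF₀, pow_mul])
  let R : Sylow 2 (Cfsg.PSU 3 F₀ (2 ^ m)) :=
    (P.subtype hPL).mapSurjective (f := ψ.toMonoidHom) ψ.surjective
  have hR := (facts_psu (by omega) (by rw [Nat.card_eq_fintype_card, hF₀]) R).card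
  have hRc : Nat.card (R : Subgroup (Cfsg.PSU 3 F₀ (2 ^ m))) = Nat.card (P : Subgroup G) := by
    show Nat.card ((P.subtype hPL : Subgroup L).map ψ.toMonoidHom) = _
    rw [card_map_of_injective (f := ψ.toMonoidHom) ψ.injective, Sylow.coe_subtype,
      Nat.card_congr (subgroupOfEquivOfLe hPL).toEquiv]
  rw [hRc, hP.card, ← pow_mul, ← pow_mul] at hR
  obtain rfl : n = m := by
    have := Nat.pow_right_injective le_rfl hR
    omega
  exact ⟨L, hLn, hLodd, ⟨ψ.trans (PGU3Char.psuCongr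
    (FiniteField.ringEquivOfCardEq (by rw [hF₀, hF])))⟩⟩

end CfsgLib.U3Type
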