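import Cfsg.Agent.U3Type.CentX
import Cfsg.Agent.LocalB.OddSignalizer

/-!
The case of a small centre: the functor on the centre of the Sylow subgroup.
-/

set_option autoImplicit false
set_option linter.unusedSectionVars false
set_option linter.style.haveILetI false

namespace CfsgLib.U3Type

open Subgroup
open scoped Pointwise

universe u

variable {G : Type u} [Group G] [Finite G] {S : Sylow 2 G} {n : ℕ}

local notation "π" => QuotientGroup.mk' (center G)

/-- A normal Sylow subgroup or a proper subgroup of the quotient by the centre containing the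
centralizers of its involutions. -/
def Outcome (S : Sylow 2 G) : Prop :=
  (S : Subgroup G).Normal ∨ ∃ M : Subgroup (G ⧸ center G), M ≠ ⊤ ∧
    (∀ g ∈ normalizer ((S : Subgroup G) : Set G), π g ∈ M) ∧
    ∀ y ∈ (S : Subgroup G), y ∉ center G → y * y ∈ center G → centralizer {π y} ≤ M

variable (h : Hyp S n)
include h

/-- An element of odd order trivial modulo the centre is trivial. -/
theorem Hyp.eq_one_of_odd {d : G} (hd : Odd (orderOf d)) (hπ : π d = 1) : d = 1 :=
  Bender.Consumers.eq_one_of_two_of_odd (i := 1) hd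
    (by rw [pow_one, sq]; exact h.center_sq ((QuotientGroup.eq_one_iff d).1 hπ))

theorem Hyp.normalizer_le_zs : normalizer ((S : Subgroup G) : Set G) ≤ normalizer (zs S : Set G) :=
  fun g hg => by
    refine mem_normalizer_iff_map_conj_eq.2 (eq_of_le_of_card_ge ?_
      (card_map_of_injective (f := (MulAut.conj g).toMonoidHom) (MulAut.conj g).injective).ge)
    rintro _ ⟨e, he, rfl⟩
    refine h.mem_zs.2 ⟨(mem_normalizer_iff.1 hg e).1 he.1, ?_⟩
    show g * e * g⁻¹ * (g * e * g⁻¹) = 1
    rw [show g * e * g⁻¹ * (g * e * g⁻¹) = g * (e * e) * g⁻¹ by group, (h.mem_zs.1 he).2, mul_one,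
      mul_inv_cancel]

/-- Without signalizers the normalizer of the centre of `S` normalizes `S`. -/
theorem Hyp.zs_normalizer_le {e : G} (he : e ∈ zs S) (heU : e ∉ center G) (hcore : core e = ⊥) :
    normalizer (zs S : Set G) ≤ normalizer ((S : Subgroup G) : Set G) := by
  haveI : Fact (Nat.Prime 2) := ⟨Nat.prime_two⟩
  have hCe : centralizer ({e} : Set G) ≤ normalizer ((S : Subgroup G) : Set G) := fun c hc => by
    obtain ⟨o, ho, m, hm, rfl⟩ := h.loc e he.1 (h.mem_zs.1 he).2 heU c hc
    rw [hcore, mem_bot] at ho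
    rwa [ho, one_mul]
  intro g hg
  set T := (S : Subgroup G).map (MulAut.conj g).toMonoidHom with hT
  have hTle : T ≤ centralizer ({e} : Set G) := by
    rintro _ ⟨s, hs, rfl⟩
    have he' : g⁻¹ * e * g ∈ zs S := by simpa using (mem_normalizer_iff.1 (inv_mem hg) e).1 he
    have hc : s * (g⁻¹ * e * g) = g⁻¹ * e * g * s := mem_centralizer_iff.1 he'.2 s hs
    refine mem_centralizer_singleton_iff.2 ?_
    show g * s * g⁻¹ * e = e * (g * s * g⁻¹)
    calc g * s * g⁻¹ * e = g * (s * (g⁻¹ * e * g)) * g⁻¹ := by group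
      _ = g * (g⁻¹ * e * g * s) * g⁻¹ := by rw [hc]
      _ = e * (g * s * g⁻¹) := by group
  have hp : IsPGroup 2 T := S.2.map _
  refine mem_normalizer_iff_map_conj_eq.2 (eq_of_le_of_card_ge ?_
    (card_map_of_injective (f := (MulAut.conj g).toMonoidHom) (MulAut.conj g).injective).ge)
  intro t ht
  rw [← S.3 (hp.to_sup_of_normal_right' S.2 (hTle.trans hCe)) le_sup_right]
  exact mem_sup_left ht

/-- The case of a small centre. -/
theorem Hyp.big (hcard : 8 * Nat.card (center G) ≤ 2 ^ n) : Outcome S := by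
  haveI : Fact (Nat.Prime 2) := ⟨Nat.prime_two⟩
  obtain ⟨x₀, hx₀, hx₀2⟩ := h.exists_x
  have hE2 : ∀ b ∈ zs S, b * b ∈ center G := fun b hb => by
    rw [(h.mem_zs.1 hb).2]; exact one_mem _
  have hEab : ∀ a ∈ zs S, ∀ b ∈ zs S, a * b = b * a := fun a ha b hb =>
    h.central ha.1 (h.mem_zs.1 ha).2 hb.1
  obtain ⟨hWodd, hW⟩ := h.functor (B := zs S) (Q := (S : Subgroup G)) hEab hE2 h.center_le_zs
    (by rw [h.card_zs]; exact hcard)
    (fun p hp b hb => (h.central hb.1 (h.mem_zs.1 hb).2 hp).symm)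
    (fun b hb hbU D hD hodd hn => h.inv_inv hb hbU le_rfl hx₀ (cx_le x₀) hD hodd hn)
  set W := wsub (zs S) with hWdef
  obtain ⟨e₀, he₀, he₀U⟩ : ∃ e ∈ zs S, e ∉ center G := by
    by_contra hno
    push Not at hno
    have h1 := card_le_of_le (H := zs S) (K := center G) hno
    rw [h.card_zs] at h1
    have : 0 < Nat.card (center G) := Nat.card_pos
    omega
  -- the subgroup `M`
  obtain ⟨M, hNE, hWM, hMtop⟩ : ∃ M : Subgroup (G ⧸ center G),
      (∀ g ∈ normalizer (zs S : Set G), π g ∈ M) ∧ W ≤ M ∧ (M = ⊤ → (S : Subgroup G).Normal) := by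
    by_cases hWb : W = ⊥
    · have hcore : core e₀ = ⊥ := (eq_bot_iff_forall _).2 fun d hd =>
        h.eq_one_of_odd ((odd_core e₀).of_dvd_nat (orderOf_dvd_natCard _ hd)) (by
          have := le_wsub (B := zs S) he₀ he₀U ⟨d, hd, rfl⟩
          rw [← hWdef, hWb, mem_bot] at this
          exact this)
      refine ⟨(normalizer ((S : Subgroup G) : Set G)).map π, fun g hg =>
        ⟨g, h.zs_normalizer_le he₀ he₀U hcore hg, rfl⟩, hWb ▸ bot_le, fun htop => ?_⟩
      rw [← normalizer_eq_top_iff, eq_top_iff]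
      intro g _
      obtain ⟨g', hg', hgg⟩ := htop.ge (mem_top (π g))
      have := mul_mem hg' (le_normalizer (h.center_le (QuotientGroup.eq.1 hgg)))
      rwa [mul_inv_cancel_left] at this
    · refine ⟨normalizer (W : Set (G ⧸ center G)), fun g hg => mem_normalizer_wsub g
        fun b hb => (mem_normalizer_iff.1 hg b).1 hb, le_normalizer, fun htop => (hWb ?_).elim⟩
      exact le_bot_iff.1 (h.oddCore_quot ▸
        Bender.Core.le_oddCore (normalizer_eq_top_iff.1 htop) hWodd)
  by_cases hM : M = ⊤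
  · exact Or.inl (hMtop hM)
  have hNS : ∀ g ∈ normalizer ((S : Subgroup G) : Set G), π g ∈ M := fun g hg =>
    hNE g (h.normalizer_le_zs hg)
  have hCe : ∀ e ∈ zs S, e ∉ center G → ∀ c ∈ centralizer ({e} : Set G), π c ∈ M := by
    intro e he heU c hc
    obtain ⟨o, ho, m, hm, rfl⟩ := h.loc e he.1 (h.mem_zs.1 he).2 heU c hc
    rw [map_mul]
    exact mul_mem (hWM (le_wsub he heU ⟨o, ho, rfl⟩)) (hNS m hm)
  have hCeq : ∀ e ∈ zs S, e ∉ center G → centralizer {π e} ≤ M := by
    intro e he heU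
    have hSC : (S : Subgroup G) ≤ centralizer {e} := fun s hs =>
      mem_centralizer_singleton_iff.2 (h.central he.1 (h.mem_zs.1 he).2 hs).symm
    exact h.centralizer_quot_le hSC S.2 (fun Q hQ _ hle => S.3 hQ hle) (hCe e he heU)
      fun m hm _ => hNS m hm
  refine Or.inr ⟨M, hM, hNS, fun y hy hyU hy2 => ?_⟩
  by_cases hyy : y * y = 1
  · exact hCeq y (h.mem_zs.2 ⟨hy, hyy⟩) hyU
  -- an element of order four
  set X := centralizer ({y} : Set G) with hX
  set P := h.sylowX hy hyy with hP
  set R := commutator X ⊓ (P : Subgroup X) with hR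
  set Mc := M.comap π with hMc
  have hNP : ∀ m ∈ normalizer ((P : Subgroup X) : Set X), (m : G) ∈ Mc := fun m hm =>
    hNE _ (h.normalizer_cx hy hyy (h.normalizer_sylowX hy hyy hm))
  have hEP : zs S ≤ cx S y := h.zs_le_cx hy
  have hder : ∀ d ∈ commutator X, (d : G) ∈ Mc := by
    by_cases hRb : R = ⊥
    · -- an odd group normalized by the elementary group
      intro d hd
      have hodd := h.odd_commutator hy hyy hRb
      refine le_of_fixed (A := (zs S).map π) (D := ((commutator X).map X.subtype).map π) ?_ ?_ ?_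
        (hodd.of_dvd_nat ((card_map_dvd _ _).trans (card_map_dvd _ _))) ?_ ?_
        ⟨d, ⟨d, hd, rfl⟩, rfl⟩
      · rintro _ ⟨a, ha, rfl⟩ _ ⟨b, hb, rfl⟩
        rw [← map_mul, hEab a ha b hb, map_mul]
      · rintro _ ⟨a, ha, rfl⟩
        rw [← map_mul]; exact (QuotientGroup.eq_one_iff _).2 (hE2 a ha)
      · have h1 := ((π).comp (zs S).subtype).ker.card_mul_index
        rw [index_ker] at h1
        have h2 : Nat.card ((π).comp (zs S).subtype).ker ≤ Nat.card (center G) :=
          Nat.card_le_card_of_injective (fun k => ⟨k.1.1, (QuotientGroup.eq_one_iff _).1 k.2⟩)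
            fun a b e => Subtype.ext (Subtype.ext (congrArg Subtype.val e :))
        rw [MonoidHom.range_comp, range_subtype, h.card_zs] at h1
        have : 0 < Nat.card (center G) := Nat.card_pos
        nlinarith
      · rintro _ ⟨a, ha, rfl⟩ _ ⟨_, ⟨k, hk, rfl⟩, rfl⟩
        refine ⟨a * (k : G) * a⁻¹, ⟨⟨a, (hEP ha).2⟩ * k * ⟨a, (hEP ha).2⟩⁻¹,
          (commutator_normal ⊤ ⊤).conj_mem k hk _, rfl⟩, by simp⟩
      · rintro _ ⟨a, ha, rfl⟩ ha1 w - hcomm
        exact hCeq a ha (fun hc => ha1 ((QuotientGroup.eq_one_iff a).2 hc))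
          (mem_centralizer_singleton_iff.2 hcomm)
    · -- a strongly embedded subgroup with abelian Sylow subgroup
      by_contra hcon
      set L := commutator X with hL
      have hRp : IsPGroup 2 R := P.2.to_le inf_le_right
      have hRLp : IsPGroup 2 (R.subgroupOf L) := fun k => by
        obtain ⟨i, hi⟩ := hRp ⟨k.1, k.2⟩
        exact ⟨i, Subtype.ext (Subtype.ext (congrArg Subtype.val hi :))⟩
      let RL : Sylow 2 L := ⟨R.subgroupOf L, hRLp, fun {Q} hQ hle => by
        have hm := commutator_max P (Q.map L.subtype) (hQ.map _) (map_subtype_le Q) fun r hr =>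
          ⟨⟨r, hr.1⟩, hle (mem_subgroupOf.2 hr), rfl⟩
        exact le_antisymm (fun k hk => mem_subgroupOf.2 (by rw [hR, ← hm]; exact ⟨k, hk, rfl⟩)) hle⟩
      set K := (Mc.subgroupOf X).subgroupOf L with hK
      have hmemE : ∀ s ∈ R, orderOf s = 2 → (s : G) ∈ zs S ∧ (s : G) ∉ center G := fun s hs ho =>
        ⟨h.mem_zs.2 ⟨(mem_subgroupOf.1 hs.2).1,
          congrArg Subtype.val (Invol.mul_self_eq_one ho)⟩,
          fun hc => Invol.ne_one ho (h.eq_one_of_center hy hyy hs.1 hc)⟩
      obtain ⟨z, hzo⟩ := exists_prime_orderOf_dvd_card' (G := R) 2 (by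
        obtain ⟨k, hk⟩ := IsPGroup.iff_card.1 hRp
        rw [hk]
        exact dvd_pow_self 2 fun h0 => hRb (eq_bot_of_card_eq _ (by rw [hk, h0, pow_zero])))
      have hz : orderOf (z : X) = 2 := by rw [orderOf_coe, hzo]
      obtain ⟨hzE, hzU⟩ := hmemE z z.2 hz
      have hNR : normalizer ((RL : Subgroup L) : Set L) ≤ K := by
        intro g hg
        have hgn : (g : X) ∈ normalizer (centralizer (R : Set X) : Set X) := by
          refine mem_normalizer_iff_map_conj_eq.2 (eq_of_le_of_card_ge ?_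
            (card_map_of_injective (f := (MulAut.conj (g : X)).toMonoidHom)
              (MulAut.conj (g : X)).injective).ge)
          rintro _ ⟨c, hc, rfl⟩
          refine mem_centralizer_iff.2 fun r hr => ?_
          have hr' : (g : X)⁻¹ * r * g ∈ R := by
            have := (mem_normalizer_iff.1 (inv_mem hg) ⟨r, hr.1⟩).1 (mem_subgroupOf.2 hr)
            simpa using mem_subgroupOf.1 this
          have h1 := mem_centralizer_iff.1 hc _ hr'
          show r * ((g : X) * c * (g : X)⁻¹) = (g : X) * c * (g : X)⁻¹ * r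
          calc r * ((g : X) * c * (g : X)⁻¹) = g * ((g : X)⁻¹ * r * g * c) * (g : X)⁻¹ := by group
            _ = g * (c * ((g : X)⁻¹ * r * g)) * (g : X)⁻¹ := by rw [h1]
            _ = (g : X) * c * (g : X)⁻¹ * r := by group
        obtain ⟨c, hc, m, hm, hgcm⟩ := exists_mul_normalizer (C := centralizer (R : Set X))
          (T := (P : Subgroup X))
          (fun p hp => mem_centralizer_iff.2 fun r hr => h.sylowX_comm hy hyy r hr.2 p hp) P.2
          (fun Q hQ _ hle => P.3 hQ hle) hgn
        show ((g : X) : G) ∈ Mc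
        rw [hgcm, Subgroup.coe_mul]
        exact mul_mem (hCe _ hzE hzU _ (mem_centralizer_singleton_iff.2
          (congrArg Subtype.val (mem_centralizer_iff.1 hc _ z.2) :).symm)) (hNP m hm)
      have hev : ∃ s ∈ (RL : Subgroup L), orderOf s = 2 :=
        ⟨⟨z, z.2.1⟩, mem_subgroupOf.2 z.2, by rw [orderOf_mk, hz]⟩
      have hse : Cfsg.IsStronglyEmbedded K := by
        refine stronglyEmbedded_of RL (fun htop => hcon fun d hd => ?_) hNR hev
          fun s hs ho c hc => ?_
        · exact (htop.ge (mem_top (⟨d, hd⟩ : L)) :)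
        · obtain ⟨hsE, hsU⟩ := hmemE s (mem_subgroupOf.1 hs) (by rw [orderOf_coe, ho])
          exact hCe _ hsE hsU _ (mem_centralizer_singleton_iff.2
            (congrArg (fun k : L => ((k : X) : G)) (mem_centralizer_singleton_iff.1 hc)))
      -- two commuting involutions
      obtain ⟨m, hm, hmz⟩ := h.exists_moved hy hyy z.2 (Invol.ne_one hz)
      have hz' : m * z * m⁻¹ ∈ R := ⟨(commutator_normal ⊤ ⊤).conj_mem _ z.2.1 m,
        (mem_normalizer_iff.1 hm _).1 z.2.2⟩
      have hp : Bender.PairRank L :=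
        ⟨⟨z, z.2.1⟩, ⟨_, hz'.1⟩, by rw [orderOf_mk, hz],
          by rw [orderOf_mk, Invol.orderOf_conj_eq, hz], fun e => hmz (congrArg Subtype.val e).symm,
          Subtype.ext (h.sylowX_comm hy hyy _ z.2.2 _ hz'.2)⟩
      set q := QuotientGroup.mk' (Cfsg.oddCore L)
      have hinj : ∀ s ∈ (RL : Subgroup L), q s = 1 → s = 1 := fun s hs e => by
        obtain ⟨i, hi⟩ := RL.2 ⟨s, hs⟩
        exact eq_one_of_mem_odd IsoApps.odd_oddCore ((QuotientGroup.eq_one_iff s).1 e)
          (congrArg Subtype.val hi :)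
      obtain ⟨u, v, hu, hv, huv, hc⟩ := id hp
      have hq : Bender.PairRank (L ⧸ Cfsg.oddCore L) := by
        have huR : (⟨z, z.2.1⟩ : L) ∈ (RL : Subgroup L) := mem_subgroupOf.2 z.2
        have hvR : (⟨_, hz'.1⟩ : L) ∈ (RL : Subgroup L) := mem_subgroupOf.2 hz'
        refine ⟨q ⟨z, z.2.1⟩, q ⟨_, hz'.1⟩, ?_, ?_, fun e => hmz ?_, ?_⟩
        · refine Invol.orderOf_eq_two (by rw [← map_mul]; exact (congrArg q (Subtype.ext
            (Invol.mul_self_eq_one hz) : (⟨z, z.2.1⟩ : L) * ⟨z, z.2.1⟩ = 1)).trans (map_one q))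
            fun e => Invol.ne_one hz (congrArg Subtype.val (hinj _ huR e))
        · have hvo : orderOf (m * z * m⁻¹) = 2 := by rw [Invol.orderOf_conj_eq, hz]
          refine Invol.orderOf_eq_two (by rw [← map_mul]; exact (congrArg q (Subtype.ext
            (Invol.mul_self_eq_one hvo) : (⟨_, hz'.1⟩ : L) * ⟨_, hz'.1⟩ = 1)).trans (map_one q))
            fun e => Invol.ne_one hvo (congrArg Subtype.val (hinj _ hvR e))
        · have := hinj _ (mul_mem (inv_mem hvR) huR) (by rw [map_mul, map_inv, ← e, inv_mul_cancel])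
          exact congrArg Subtype.val (inv_mul_eq_one.1 this)
        · exact (Commute.map (show Commute (⟨z, z.2.1⟩ : L) ⟨_, hz'.1⟩ from
            Subtype.ext (h.sylowX_comm hy hyy _ z.2.2 _ hz'.2)) q)
      have hsq := sq_of_se_abelian (Bender.Consumers.quot_se hse hp) LocalB.oddCore_quotient hq
        (RL.mapSurjective (QuotientGroup.mk'_surjective _)) (by
          rintro _ ⟨a, ha, rfl⟩ _ ⟨b, hb, rfl⟩
          rw [← map_mul, ← map_mul]
          exact congrArg q (Subtype.ext (h.sylowX_comm hy hyy _ (mem_subgroupOf.1 ha).2 _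
            (mem_subgroupOf.1 hb).2)))
      obtain ⟨k, hk, hkz⟩ := h.exists_sqrt_derived hy hyy z.2 (Invol.mul_self_eq_one hz)
      have hkL : (⟨k, hk.1⟩ : L) ∈ (RL : Subgroup L) := mem_subgroupOf.2 hk
      have h1 := hinj _ (mul_mem hkL hkL) (by
        rw [map_mul]; exact hsq _ ⟨_, hkL, rfl⟩)
      exact Invol.ne_one hz (hkz ▸ congrArg Subtype.val h1)
  have hCy : ∀ c ∈ centralizer ({y} : Set G), π c ∈ M := fun c hc => by
    obtain ⟨d, hd, m, hm, hcm⟩ := exists_commutator_mul_normalizer P (⟨c, hc⟩ : X)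
    have : c = (d : G) * (m : G) := congrArg Subtype.val hcm
    show c ∈ Mc
    rw [this]
    exact mul_mem (hder d hd) (hNP m hm)
  exact h.centralizer_quot_le (T := cx S y) (cx_le_centralizer y) (S.2.to_le (cx_le y))
    (h.cx_max hy hyy) hCy fun m hm _ => hNE m (h.normalizer_cx hy hyy hm)

end CfsgLib.U3Type
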