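import Cfsg.Agent.U3Type.Basic

/-!
Abelian Sylow 2-subgroups: elements of the derived group fixed by the normalizer, square roots in
the derived group, and the Frattini decomposition.
-/

set_option autoImplicit false
set_option linter.unusedSectionVars false
set_option linter.style.haveILetI false

namespace CfsgLib.U3Type

open Subgroup

universe u

variable {X : Type u} [Group X] [Finite X] (P : Sylow 2 X)
  (hab : ∀ a ∈ (P : Subgroup X), ∀ b ∈ (P : Subgroup X), a * b = b * a)

/-- The transfer to an abelian subgroup. -/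
noncomputable def abTransfer (H : Subgroup X) (h : ∀ a ∈ H, ∀ b ∈ H, a * b = b * a) : X →* H :=
  letI : CommGroup H := { (inferInstance : Group H) with
    mul_comm := fun x y => Subtype.ext (h x x.2 y y.2) }
  MonoidHom.transfer (MonoidHom.id H)

/-- Transfer commutes with the homomorphisms defined on the whole group. -/
theorem transfer_apply_of {H : Subgroup X} (h : ∀ a ∈ H, ∀ b ∈ H, a * b = b * a) {A : Type*}
    [CommGroup A] (f : X →* A) (g : X) : f (abTransfer H h g : X) = f g ^ H.index := by
  classical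
  letI : CommGroup H := { (inferInstance : Group H) with
    mul_comm := fun x y => Subtype.ext (h x x.2 y y.2) }
  letI := H.fintypeQuotientOfFiniteIndex
  rw [show abTransfer H h g = MonoidHom.transfer (MonoidHom.id H) g from rfl,
    MonoidHom.transfer_eq_prod_quotient_orbitRel_zpowers_quot, H.index_eq_sum_minimalPeriod g,
    ← Finset.prod_pow_eq_pow_sum, show ∀ y : H, f (y : X) = (f.comp H.subtype) y from fun _ => rfl,
    map_prod]
  refine Finset.prod_congr rfl fun q _ => ?_
  simp [map_mul, map_pow, mul_comm, mul_left_comm]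

include hab

/-- An element of `P ∩ X'` fixed by `N(P)` is trivial. -/
theorem eq_one_of_fixed {c : X} (hc : c ∈ (P : Subgroup X)) (hc' : c ∈ commutator X)
    (hfix : ∀ n ∈ normalizer ((P : Subgroup X) : Set X), n * c = c * n) : c = 1 := by
  haveI : Fact (Nat.Prime 2) := ⟨Nat.prime_two⟩
  letI : CommGroup (P : Subgroup X) := { (inferInstance : Group (P : Subgroup X)) with
    mul_comm := fun x y => Subtype.ext (hab x x.2 y y.2) }
  have key : ∀ (k : ℕ) (g₀ : X), g₀⁻¹ * c ^ k * g₀ ∈ (P : Subgroup X) →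
      g₀⁻¹ * c ^ k * g₀ = c ^ k := fun k g₀ hg => by
    haveI : IsMulCommutative (P : Subgroup X) := ⟨⟨fun a b => Subtype.ext (hab a a.2 b b.2)⟩⟩
    obtain ⟨n, hn, e⟩ := P.conj_eq_normalizer_conj_of_mem (c ^ k) g₀ (pow_mem hc k) hg
    rw [e, mul_assoc, ← (Commute.pow_right (hfix n hn) k).eq, inv_mul_cancel_left]
  set τ := MonoidHom.transfer (MonoidHom.id (P : Subgroup X))
  have h1 : τ c = 1 := MonoidHom.mem_ker.1 (Abelianization.commutator_subset_ker τ hc')
  have h2 : c ^ (P : Subgroup X).index = 1 := by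
    have := congrArg Subtype.val (MonoidHom.transfer_eq_pow (MonoidHom.id (P : Subgroup X)) c key)
    rw [show MonoidHom.transfer (MonoidHom.id (P : Subgroup X)) c = 1 from h1] at this
    exact this.symm
  obtain ⟨i, hi⟩ := P.2 ⟨c, hc⟩
  refine Bender.Consumers.eq_one_of_two_of_odd (i := i) ?_ (congrArg Subtype.val hi :)
  exact (Nat.not_even_iff_odd.1 fun h => P.not_dvd_index h.two_dvd).of_dvd_nat
    (orderOf_dvd_of_pow_eq_one h2)

/-- A square in `P` lying in `X'` is a square in `P ∩ X'`, for an involution. -/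
theorem exists_sqrt_commutator {r p : X} (hp : p ∈ (P : Subgroup X)) (hr : r ∈ commutator X)
    (hrr : r * r = 1) (hpr : p * p = r) :
    ∃ k ∈ (P : Subgroup X), k ∈ commutator X ∧ k * k = r := by
  haveI : Fact (Nat.Prime 2) := ⟨Nat.prime_two⟩
  letI : CommGroup (P : Subgroup X) := { (inferInstance : Group (P : Subgroup X)) with
    mul_comm := fun x y => Subtype.ext (hab x x.2 y y.2) }
  set τ := abTransfer (P : Subgroup X) hab with hτ
  set y : (P : Subgroup X) := τ p with hy
  have hy2 : (y : X) * y = 1 := by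
    have h : τ r = 1 := MonoidHom.mem_ker.1 (Abelianization.commutator_subset_ker τ hr)
    rw [← Subgroup.coe_mul, hy, ← map_mul, hpr, h, Subgroup.coe_one]
  set i := (P : Subgroup X).index
  have hof : Abelianization.of (y : X) = Abelianization.of p ^ i := transfer_apply_of hab _ p
  refine ⟨p ^ i * (y : X)⁻¹, mul_mem (pow_mem hp _) (inv_mem y.2), ?_, ?_⟩
  · rw [← Abelianization.ker_of, MonoidHom.mem_ker, map_mul, map_pow, map_inv, hof, mul_inv_cancel]
  · have hc := hab (y : X)⁻¹ (inv_mem y.2) (p ^ i) (pow_mem hp _)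
    calc p ^ i * (y : X)⁻¹ * (p ^ i * (y : X)⁻¹)
        = p ^ i * ((y : X)⁻¹ * p ^ i) * (y : X)⁻¹ := by group
      _ = p ^ i * (p ^ i * (y : X)⁻¹) * (y : X)⁻¹ := by rw [hc]
      _ = (p ^ i * p ^ i) * ((y : X) * y)⁻¹ := by group
      _ = r ^ i := by rw [hy2, inv_one, mul_one, ← (Commute.refl p).mul_pow, hpr]
      _ = r := by
        obtain ⟨j, hj⟩ := Nat.not_even_iff_odd.1 fun h => P.not_dvd_index (Even.two_dvd h)
        rw [show i = 2 * j + 1 from hj, pow_succ, pow_mul, sq, hrr, one_pow, one_mul]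

omit hab in
/-- The Frattini decomposition over the derived group. -/
theorem exists_commutator_mul_normalizer (g : X) :
    ∃ c ∈ commutator X, ∃ m ∈ normalizer ((P : Subgroup X) : Set X), g = c * m := by
  haveI : ((commutator X) ⊔ (P : Subgroup X)).Normal := ⟨fun x hx k => by
    have h : k * x * k⁻¹ * x⁻¹ ∈ commutator X :=
      commutator_mem_commutator (mem_top k) (mem_top x)
    simpa using mul_mem (mem_sup_left h) hx⟩
  obtain ⟨c, hc, m, hm, rfl⟩ := exists_mul_normalizer (C := commutator X ⊔ (P : Subgroup X))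
    (T := (P : Subgroup X)) le_sup_right P.2 (fun Q hQ _ hle => P.3 hQ hle)
    (g := g) (by rw [normalizer_eq_top_iff.2 inferInstance]; exact mem_top g)
  obtain ⟨c', hc', p, hp, rfl⟩ := mem_sup_of_normal_left.1 hc
  exact ⟨c', hc', p * m, mul_mem (le_normalizer hp) hm, mul_assoc _ _ _⟩

omit hab in
/-- The Sylow subgroup of the derived group. -/
theorem commutator_max (Q : Subgroup X) (hQ : IsPGroup 2 Q) (hQc : Q ≤ commutator X)
    (hle : commutator X ⊓ (P : Subgroup X) ≤ Q) : Q = commutator X ⊓ (P : Subgroup X) := by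
  haveI : Fact (Nat.Prime 2) := ⟨Nat.prime_two⟩
  refine (eq_of_le_of_card_ge hle ?_).symm
  obtain ⟨R, hR⟩ := hQ.exists_le_sylow
  obtain ⟨g, hg⟩ := MulAction.exists_smul_eq X R P
  rw [← card_map_of_injective (K := Q) (f := (MulAut.conj g).toMonoidHom) (MulAut.conj g).injective]
  refine card_le_of_le ?_
  rintro _ ⟨x, hx, rfl⟩
  refine ⟨(commutator_normal ⊤ ⊤).conj_mem x (hQc hx) g, ?_⟩
  have h := Subgroup.smul_mem_pointwise_smul _ (MulAut.conj g) _ (hR hx)
  rw [← Sylow.coe_subgroup_smul, hg] at h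
  exact h

end CfsgLib.U3Type
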