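import Cfsg.Agent.U3Type.Local
import Cfsg.Agent.U3Type.Transfer

/-!
The centralizer of an element of order four: its Sylow 2-subgroup and the derived group.
-/

set_option autoImplicit false
set_option linter.unusedSectionVars false
set_option linter.style.haveILetI false

namespace CfsgLib.U3Type

open Subgroup
open scoped Pointwise

universe u

variable {G : Type u} [Group G] [Finite G] {S : Sylow 2 G} {n : ℕ}

local notation "π" => QuotientGroup.mk' (center G)

variable (h : Hyp S n) {x : G} (hx : x ∈ (S : Subgroup G)) (hx2 : x * x ≠ 1)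

/-- The Sylow subgroup `C_S(x)` of `C(x)`. -/
def Hyp.sylowX : Sylow 2 ↥(centralizer ({x} : Set G)) :=
  ⟨(cx S x).subgroupOf (centralizer {x}), fun k => by
      obtain ⟨i, hi⟩ := S.2 ⟨k.1, (mem_subgroupOf.1 k.2).1⟩
      exact ⟨i, Subtype.ext (Subtype.ext (congrArg Subtype.val hi :))⟩,
    fun {Q} hQ hle => by
      have hm := h.cx_max hx hx2 (Q.map (centralizer ({x} : Set G)).subtype) (hQ.map _)
        (map_subtype_le Q) fun p hp => ⟨⟨p, hp.2⟩, hle (mem_subgroupOf.2 hp), rfl⟩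
      exact le_antisymm (fun k hk => mem_subgroupOf.2 (by rw [← hm]; exact ⟨k, hk, rfl⟩)) hle⟩

include h hx hx2

theorem Hyp.sylowX_comm : ∀ a ∈ (h.sylowX hx hx2 : Subgroup ↥(centralizer ({x} : Set G))),
    ∀ b ∈ (h.sylowX hx hx2 : Subgroup ↥(centralizer ({x} : Set G))), a * b = b * a :=
  fun _ ha _ hb => Subtype.ext (h.cent hx hx2 (mem_subgroupOf.1 ha) (mem_subgroupOf.1 hb))

/-- The elements of `C(x)` normalizing its Sylow subgroup normalize `C_S(x)`. -/
theorem Hyp.normalizer_sylowX {m : ↥(centralizer ({x} : Set G))}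
    (hm : m ∈ normalizer ((h.sylowX hx hx2 : Subgroup ↥(centralizer ({x} : Set G))) : Set _)) :
    (m : G) ∈ normalizer (cx S x : Set G) := by
  refine mem_normalizer_iff_map_conj_eq.2 (eq_of_le_of_card_ge ?_
    (card_map_of_injective (f := (MulAut.conj (m : G)).toMonoidHom) (MulAut.conj (m : G)).injective).ge)
  rintro _ ⟨p, hp, rfl⟩
  exact (mem_normalizer_iff.1 hm ⟨p, hp.2⟩).1 hp

/-- An element normalizing `C_S(x)` normalizes the centre of `S`. -/
theorem Hyp.normalizer_cx {g : G} (hg : g ∈ normalizer (cx S x : Set G)) :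
    g ∈ normalizer (zs S : Set G) := by
  refine mem_normalizer_iff_map_conj_eq.2 (eq_of_le_of_card_ge ?_
    (card_map_of_injective (f := (MulAut.conj g).toMonoidHom) (MulAut.conj g).injective).ge)
  rintro _ ⟨e, he, rfl⟩
  refine h.mem_zs.2 ⟨((mem_normalizer_iff.1 hg e).1 (h.zs_le_cx hx he)).1, ?_⟩
  show g * e * g⁻¹ * (g * e * g⁻¹) = 1
  rw [show g * e * g⁻¹ * (g * e * g⁻¹) = g * (e * e) * g⁻¹ by group, (h.mem_zs.1 he).2, mul_one,
    mul_inv_cancel]

/-- The Sylow part of the derived group of `C(x)` meets the centre trivially. -/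
theorem Hyp.eq_one_of_center {r : ↥(centralizer ({x} : Set G))}
    (hr : r ∈ commutator ↥(centralizer ({x} : Set G))) (hrZ : (r : G) ∈ center G) : r = 1 :=
  eq_one_of_fixed (h.sylowX hx hx2) (h.sylowX_comm hx hx2)
    (mem_subgroupOf.2 (h.center_le_cx hx hrZ)) hr
    fun m _ => Subtype.ext (mem_center_iff.1 hrZ (m : G))

/-- An element of `P ∩ X'` is trivial or has a conjugate different from itself. -/
theorem Hyp.exists_moved {r : ↥(centralizer ({x} : Set G))}
    (hr : r ∈ commutator ↥(centralizer ({x} : Set G)) ⊓ (h.sylowX hx hx2 : Subgroup _))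
    (hr1 : r ≠ 1) :
    ∃ m ∈ normalizer ((h.sylowX hx hx2 : Subgroup ↥(centralizer ({x} : Set G))) : Set _),
      m * r * m⁻¹ ≠ r := by
  by_contra hno
  push Not at hno
  exact hr1 (eq_one_of_fixed (h.sylowX hx hx2) (h.sylowX_comm hx hx2) hr.2 hr.1
    fun m hm => mul_inv_eq_iff_eq_mul.1 (hno m hm))

/-- An involution of `P ∩ X'` is a square in it. -/
theorem Hyp.exists_sqrt_derived {r : ↥(centralizer ({x} : Set G))}
    (hr : r ∈ commutator ↥(centralizer ({x} : Set G)) ⊓ (h.sylowX hx hx2 : Subgroup _))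
    (hrr : r * r = 1) :
    ∃ k ∈ commutator ↥(centralizer ({x} : Set G)) ⊓ (h.sylowX hx hx2 : Subgroup _), k * k = r := by
  obtain ⟨p, hp, hpr⟩ := h.exists_sqrt_cx hx hx2 (h.mem_zs.2
    ⟨(mem_subgroupOf.1 hr.2).1, congrArg Subtype.val hrr⟩)
  obtain ⟨k, hk, hk', hkk⟩ := exists_sqrt_commutator (h.sylowX hx hx2) (h.sylowX_comm hx hx2)
    (p := ⟨p, hp.2⟩) (mem_subgroupOf.2 hp) hr.1 hrr (Subtype.ext hpr)
  exact ⟨k, ⟨hk', hk⟩, hkk⟩

/-- Without involutions in `P ∩ X'` the derived group has odd order. -/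
theorem Hyp.odd_commutator
    (hR : commutator ↥(centralizer ({x} : Set G)) ⊓ (h.sylowX hx hx2 : Subgroup _) = ⊥) :
    Odd (Nat.card (commutator ↥(centralizer ({x} : Set G)))) := by
  haveI : Fact (Nat.Prime 2) := ⟨Nat.prime_two⟩
  by_contra hev
  obtain ⟨t, ht⟩ := exists_prime_orderOf_dvd_card'
    (G := commutator ↥(centralizer ({x} : Set G))) 2
    (even_iff_two_dvd.1 (Nat.not_odd_iff_even.1 hev))
  rw [← orderOf_coe] at ht
  have h1 := commutator_max (h.sylowX hx hx2) (zpowers t.1)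
    (IsPGroup.of_card (n := 1) (by rw [Nat.card_zpowers, ht, pow_one])) (zpowers_le.2 t.2)
    (hR ▸ bot_le)
  rw [hR, zpowers_eq_bot] at h1
  rw [h1, orderOf_one] at ht
  exact absurd ht (by decide)

end CfsgLib.U3Type
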