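import Cfsg.Agent.U3Type.CentX
import Cfsg.Agent.LocalB.OddSignalizer
import Cfsg.Agent.S0949

/-!
A large centre: centralizers of the elements of order four with central square are `O(X) N(P)`.
-/

set_option autoImplicit false
set_option linter.unusedSectionVars false
set_option linter.style.haveILetI false

namespace CfsgLib.U3Type

open Subgroup
open scoped Pointwise

universe u

/-- An abelian 2-group with four elements of square one, all of them squares. -/
theorem nonempty_equiv_four {T : Type*} [Group T] [Finite T] (hab : ∀ a b : T, a * b = b * a)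
    (hexp : ∀ a : T, a * a * (a * a) = 1) (h4 : Nat.card {a : T // a * a = 1} = 4)
    (hroot : ∀ a : T, a * a = 1 → ∃ k, k * k = a) :
    Nonempty (T ≃* Multiplicative (ZMod (2 ^ 2) × ZMod (2 ^ 2))) := by
  classical
  letI : CommGroup T := { (inferInstance : Group T) with mul_comm := hab }
  haveI := Fintype.ofFinite T
  let f : T →* T := powMonoidHom 2
  have hf : ∀ a : T, f a = a * a := fun a => sq a
  have hker : Nat.card f.ker = 4 := by
    rw [← h4]
    exact Nat.card_congr (Equiv.subtypeEquivRight fun a => by rw [MonoidHom.mem_ker, hf])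
  have hrange : f.range = f.ker := by
    ext a
    constructor
    · rintro ⟨k, rfl⟩
      rw [MonoidHom.mem_ker, hf, hf]; exact hexp k
    · intro ha
      obtain ⟨k, hk⟩ := hroot a (by rw [← hf]; exact ha)
      exact ⟨k, by rw [hf, hk]⟩
  have hT : Nat.card T = 16 := by
    rw [← f.ker.card_mul_index, index_ker, hrange, hker]
  -- two involutions and their roots
  obtain ⟨z, hz, hz1⟩ : ∃ z : T, z * z = 1 ∧ z ≠ 1 := by
    by_contra hno
    push Not at hno
    haveI : Subsingleton {a : T // a * a = 1} := ⟨fun a b => Subtype.ext ((hno a a.2).trans (hno b b.2).symm)⟩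
    have h1 := Finite.card_le_one_iff_subsingleton.2 ‹Subsingleton {a : T // a * a = 1}›
    omega
  obtain ⟨w, hw, hw1, hwz⟩ : ∃ w : T, w * w = 1 ∧ w ≠ 1 ∧ w ≠ z := by
    by_contra hno
    push Not at hno
    have h1 : Nat.card {a : T // a * a = 1} ≤ Nat.card Bool :=
      Nat.card_le_card_of_injective (fun a => decide (a.1 = 1)) fun a b h => by
        have hiff : a.1 = 1 ↔ b.1 = 1 := decide_eq_decide.1 h
        refine Subtype.ext ?_
        by_cases ha : a.1 = 1
        · rw [ha, hiff.1 ha]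
        · rw [hno _ a.2 ha, hno _ b.2 fun hb => ha (hiff.2 hb)]
    rw [h4, Nat.card_eq_fintype_card, Fintype.card_bool] at h1
    omega
  obtain ⟨k, hk⟩ := hroot z hz
  obtain ⟨l, hl⟩ := hroot w hw
  have hpow : ∀ a : T, a ^ (4 : ℕ) = 1 := fun a => by
    rw [show (4 : ℕ) = 2 * 2 from rfl, pow_mul, sq, sq]; exact hexp a
  let φ : T → (ZMod (2 ^ 2) →+ Additive T) := fun a => ZMod.lift (2 ^ 2)
    ⟨zmultiplesHom (Additive T) (Additive.ofMul a), by
      rw [zmultiplesHom_apply, natCast_zsmul, ← ofMul_pow]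
      exact congrArg Additive.ofMul (hpow a)⟩
  let ψ : Multiplicative (ZMod (2 ^ 2) × ZMod (2 ^ 2)) →* T :=
    AddMonoidHom.toMultiplicativeLeft ((φ k).coprod (φ l))
  have hφ : ∀ a : T, φ a 1 = Additive.ofMul a := fun a => by
    rw [show (1 : ZMod (2 ^ 2)) = ((1 : ℤ) : ZMod (2 ^ 2)) from Int.cast_one.symm]
    simp [φ, -Int.cast_one]
  have hkr : k ∈ ψ.range := ⟨Multiplicative.ofAdd (1, 0), by
    show Additive.toMul ((φ k) 1 + (φ l) 0) = k
    rw [map_zero, add_zero, hφ]; rfl⟩
  have hlr : l ∈ ψ.range := ⟨Multiplicative.ofAdd (0, 1), by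
    show Additive.toMul ((φ k) 0 + (φ l) 1) = l
    rw [map_zero, zero_add, hφ]; rfl⟩
  have hΩ : ∀ a : T, a * a = 1 → a = 1 ∨ a = z ∨ a = w ∨ a = z * w := by
    have hne : z * w ≠ 1 ∧ z * w ≠ z ∧ z * w ≠ w := ⟨fun e => hwz (by
        rw [eq_inv_of_mul_eq_one_right e, inv_eq_of_mul_eq_one_right hz]),
      fun e => hw1 (mul_eq_left.1 e), fun e => hz1 (mul_eq_right.1 e)⟩
    have hzw : z * w * (z * w) = 1 := by rw [mul_mul_mul_comm, hz, hw, one_mul]
    have hset : ({1, z, w, z * w} : Finset T) = Finset.univ.filter fun a => a * a = 1 := by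
      refine Finset.eq_of_subset_of_card_le (fun a ha => ?_) ?_
      · simp only [Finset.mem_insert, Finset.mem_singleton] at ha
        refine Finset.mem_filter.2 ⟨Finset.mem_univ _, ?_⟩
        rcases ha with rfl | rfl | rfl | rfl
        exacts [one_mul _, hz, hw, hzw]
      · rw [← Fintype.card_subtype, ← Nat.card_eq_fintype_card, h4]
        rw [Finset.card_insert_of_notMem (by
            simp only [Finset.mem_insert, Finset.mem_singleton, not_or]
            exact ⟨hz1.symm, hw1.symm, hne.1.symm⟩),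
          Finset.card_insert_of_notMem (by
            simp only [Finset.mem_insert, Finset.mem_singleton, not_or]
            exact ⟨hwz.symm, hne.2.1.symm⟩),
          Finset.card_insert_of_notMem (by
            rw [Finset.mem_singleton]; exact hne.2.2.symm), Finset.card_singleton]
    intro a ha
    have : a ∈ ({1, z, w, z * w} : Finset T) := by
      rw [hset]; exact Finset.mem_filter.2 ⟨Finset.mem_univ _, ha⟩
    simpa only [Finset.mem_insert, Finset.mem_singleton] using this
  have hΩr : ∀ a : T, a * a = 1 → a ∈ ψ.range := fun a ha => by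
    rcases hΩ a ha with rfl | rfl | rfl | rfl
    exacts [one_mem _, hk ▸ mul_mem hkr hkr, hl ▸ mul_mem hlr hlr,
      mul_mem (hk ▸ mul_mem hkr hkr) (hl ▸ mul_mem hlr hlr)]
  have hsurj : Function.Surjective ψ := fun a => by
    have key : ∀ j ∈ ψ.range, a * a = j * j → a ∈ ψ.range := fun j hj he => by
      have := mul_mem (hΩr (a * j⁻¹) (by
        rw [mul_mul_mul_comm, ← mul_inv, he, mul_inv_cancel])) hj
      rwa [inv_mul_cancel_right] at this
    rcases hΩ (a * a) (hexp a) with e | e | e | e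
    · exact key 1 (one_mem _) (e.trans (one_mul _).symm)
    · exact key k hkr (e.trans hk.symm)
    · exact key l hlr (e.trans hl.symm)
    · exact key (k * l) (mul_mem hkr hlr) (by rw [e, mul_mul_mul_comm, hk, hl])
  refine ⟨(MulEquiv.ofBijective ψ ((Nat.bijective_iff_surjective_and_card ψ).2 ⟨hsurj, ?_⟩)).symm⟩
  rw [hT, Nat.card_congr Multiplicative.toAdd, Nat.card_prod, Nat.card_zmod]
  norm_num

variable {G : Type u} [Group G] [Finite G] {S : Sylow 2 G} {n : ℕ}

/-- With a large centre the centralizer of an element of order four is `O(X) N(P)`. -/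
theorem Hyp.dec (h : Hyp S n) (hcard : 2 ^ n ≤ 4 * Nat.card (center G)) {x : G}
    (hx : x ∈ (S : Subgroup G)) (hx2 : x * x ≠ 1) :
    ∀ g : ↥(centralizer ({x} : Set G)), ∃ o ∈ Cfsg.oddCore ↥(centralizer ({x} : Set G)),
      ∃ m ∈ normalizer ((h.sylowX hx hx2 : Subgroup ↥(centralizer ({x} : Set G))) : Set _),
        g = o * m := by
  haveI : Fact (Nat.Prime 2) := ⟨Nat.prime_two⟩
  set X := centralizer ({x} : Set G) with hX
  intro g
  set P := h.sylowX hx hx2 with hP
  have hab := h.sylowX_comm hx hx2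
  set L := commutator X with hL
  set R := L ⊓ (P : Subgroup X) with hR
  haveI hLn : L.Normal := commutator_normal ⊤ ⊤
  by_cases hRb : R = ⊥
  · obtain ⟨c, hc, m, hm, hg⟩ := exists_commutator_mul_normalizer P g
    exact ⟨c, Bender.Core.le_oddCore hLn (h.odd_commutator hx hx2 hRb) hc, m, hm, hg⟩
  -- `R` is homocyclic of rank two
  have hRp : IsPGroup 2 R := P.2.to_le inf_le_right
  obtain ⟨z, hzo⟩ := exists_prime_orderOf_dvd_card' (G := R) 2 (by
    obtain ⟨k, hk⟩ := IsPGroup.iff_card.1 hRp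
    rw [hk]
    exact dvd_pow_self 2 fun h0 => hRb (eq_bot_of_card_eq _ (by rw [hk, h0, pow_zero])))
  have hz : orderOf (z : X) = 2 := by rw [orderOf_coe, hzo]
  obtain ⟨m₀, hm₀, hmz⟩ := h.exists_moved hx hx2 z.2 (Invol.ne_one hz)
  have hz' : m₀ * z * m₀⁻¹ ∈ R := ⟨hLn.conj_mem _ z.2.1 m₀, (mem_normalizer_iff.1 hm₀ _).1 z.2.2⟩
  have hRab : ∀ a b : R, a * b = b * a := fun a b => Subtype.ext (hab _ a.2.2 _ b.2.2)
  have hle : Nat.card {a : R // a * a = 1} ≤ 4 := by
    refine Nat.le_of_mul_le_mul_right ?_ (Nat.card_pos (α := center G))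
    refine le_trans ?_ hcard
    rw [← Nat.card_prod, ← h.card_zs]
    refine Nat.card_le_card_of_injective (fun p => ⟨(p.1.1.1 : G) * p.2.1,
      mul_mem (h.mem_zs.2 ⟨(mem_subgroupOf.1 p.1.1.2.2).1,
        congrArg (fun a : R => ((a : X) : G)) p.1.2⟩) (h.center_le_zs p.2.2)⟩) ?_
    rintro ⟨a, u⟩ ⟨b, v⟩ e
    have e' : ((a.1 : X) : G) * u.1 = ((b.1 : X) : G) * v.1 := congrArg Subtype.val e
    have h1 : (b.1 : X)⁻¹ * (a.1 : X) = 1 := by
      refine h.eq_one_of_center hx hx2 (mul_mem (inv_mem b.1.2.1) a.1.2.1) ?_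
      show ((b.1 : X) : G)⁻¹ * ((a.1 : X) : G) ∈ center G
      rw [show ((b.1 : X) : G)⁻¹ * ((a.1 : X) : G) = v.1 * u.1⁻¹ by
        rw [eq_mul_inv_iff_mul_eq, mul_assoc, e', inv_mul_cancel_left]]
      exact mul_mem v.2 (inv_mem u.2)
    have hab' : a = b := Subtype.ext (Subtype.ext (inv_mul_eq_one.1 h1).symm)
    subst hab'
    exact Prod.ext rfl (Subtype.ext (mul_left_cancel e'))
  have hge : 4 ≤ Nat.card {a : R // a * a = 1} := by
    have hzz : (z : X) * z = 1 := Invol.mul_self_eq_one hz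
    let f : Fin 4 → {a : R // a * a = 1} := fun i =>
      ⟨![1, z, ⟨_, hz'⟩, z * ⟨_, hz'⟩] i, by
        have h1 : z * z = 1 := Subtype.ext hzz
        have h2 : (⟨_, hz'⟩ : R) * ⟨_, hz'⟩ = 1 := Subtype.ext (Invol.mul_self_eq_one
          (by rw [Invol.orderOf_conj_eq, hz]))
        fin_cases i
        · exact one_mul _
        · exact h1
        · exact h2
        · show z * ⟨_, hz'⟩ * (z * ⟨_, hz'⟩) = 1
          rw [mul_assoc, ← mul_assoc _ z, hRab _ z, mul_assoc, h2, mul_one, h1]⟩
    have hz1 : (z : X) ≠ 1 := Invol.ne_one hz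
    have hz'1 : m₀ * (z : X) * m₀⁻¹ ≠ 1 := fun e => hz1 (conj_eq_one_iff.1 e)
    have hf : Function.Injective f := fun i j e => by
      have e' : ((![1, z, ⟨_, hz'⟩, z * ⟨_, hz'⟩] i : R) : X) =
          ((![1, z, ⟨_, hz'⟩, z * ⟨_, hz'⟩] j : R) : X) :=
        congrArg (fun a : {a : R // a * a = 1} => ((a.1 : R) : X)) e
      have h3 : (z : X) * (m₀ * z * m₀⁻¹) ≠ 1 := fun hh => hmz (by
        rw [eq_inv_of_mul_eq_one_right hh, inv_eq_of_mul_eq_one_right hzz])
      fin_cases i <;> fin_cases j <;> first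
        | rfl
        | (exfalso; simp at e'; first
            | exact hz1 e'
            | exact hz1 e'.symm
            | exact hmz e'
            | exact hmz e'.symm
            | exact hz'1 e'
            | exact hz'1 e'.symm
            | exact h3 e'
            | exact h3 e'.symm
            | (exact hmz (by simpa using e'))
            | (exact hz1 (by simpa using e'))
            | (exact hz'1 (by simpa using e')))
    simpa using Nat.card_le_card_of_injective f hf
  obtain ⟨eR⟩ := nonempty_equiv_four hRab (fun a => Subtype.ext (Subtype.ext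
    (h.sq_sq (mem_subgroupOf.1 a.2.2).1))) (le_antisymm hle hge) fun a ha => by
      obtain ⟨k, hk, hkk⟩ := h.exists_sqrt_derived hx hx2 a.2 (congrArg Subtype.val ha)
      exact ⟨⟨k, hk⟩, Subtype.ext hkk⟩
  -- Brauer in the derived group
  have hRLp : IsPGroup 2 (R.subgroupOf L) := fun k => by
    obtain ⟨i, hi⟩ := hRp ⟨k.1, k.2⟩
    exact ⟨i, Subtype.ext (Subtype.ext (congrArg Subtype.val hi :))⟩
  let RL : Sylow 2 L := ⟨R.subgroupOf L, hRLp, fun {Q} hQ hle => by
    have hm := commutator_max P (Q.map L.subtype) (hQ.map _) (map_subtype_le Q) fun r hr =>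
      ⟨⟨r, hr.1⟩, hle (mem_subgroupOf.2 hr), rfl⟩
    exact le_antisymm (fun k hk => mem_subgroupOf.2 (by rw [hR, ← hm]; exact ⟨k, hk, rfl⟩)) hle⟩
  set q := QuotientGroup.mk' (Cfsg.oddCore L)
  set RQ := RL.mapSurjective (f := q) (QuotientGroup.mk'_surjective _) with hRQ
  have hinj : Function.Injective (q.subgroupMap (RL : Subgroup L)) := by
    refine (injective_iff_map_eq_one _).2 fun s hs => ?_
    obtain ⟨i, hi⟩ := RL.2 s
    exact Subtype.ext (eq_one_of_mem_odd IsoApps.odd_oddCore
      ((QuotientGroup.eq_one_iff (s : L)).1 (congrArg Subtype.val hs))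
      (congrArg Subtype.val hi :))
  let eQ : (RQ : Subgroup (L ⧸ Cfsg.oddCore L)) ≃* Multiplicative (ZMod (2 ^ 2) × ZMod (2 ^ 2)) :=
    (MulEquiv.ofBijective (q.subgroupMap (RL : Subgroup L))
      ⟨hinj, q.subgroupMap_surjective _⟩).symm.trans
      ((subgroupOfEquivOfLe (inf_le_left : R ≤ L)).trans eR)
  have hRQn : (RQ : Subgroup (L ⧸ Cfsg.oddCore L)).Normal :=
    (Cfsg.Agent.S0949.result RQ 2 le_rfl eQ fun N hN hodd => le_bot_iff.1
      (LocalB.oddCore_quotient (H := L) ▸ Bender.Core.le_oddCore hN hodd)).1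
  -- Frattini
  set OL := (Cfsg.oddCore L).map L.subtype with hOL
  haveI hOLn : OL.Normal := by
    refine ⟨?_⟩
    rintro _ ⟨o, ho, rfl⟩ k
    refine ⟨MulAut.conjNormal k o, Bender.Core.le_oddCore
      (X := (Cfsg.oddCore L).map (MulAut.conjNormal k : MulAut L).toMonoidHom)
      (Normal.map inferInstance _ (MulAut.conjNormal k : MulAut L).surjective) ?_ ⟨o, ho, rfl⟩,
      MulAut.conjNormal_apply k o⟩
    rw [card_map_of_injective (f := (MulAut.conjNormal k : MulAut L).toMonoidHom)
      (MulAut.conjNormal k : MulAut L).injective]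
    exact IsoApps.odd_oddCore
  have hOX : OL ≤ Cfsg.oddCore X := Bender.Core.le_oddCore hOLn (Bender.NormalPart.odd_coreMap L)
  have hCn : (OL ⊔ R).Normal := by
    rw [← normalizer_eq_top_iff, eq_top_iff]
    intro k _
    refine mem_normalizer_iff_map_conj_eq.2 (eq_of_le_of_card_ge ?_
      (card_map_of_injective (f := (MulAut.conj k).toMonoidHom) (MulAut.conj k).injective).ge)
    rw [Subgroup.map_sup]
    refine sup_le (fun w hw => ?_) ?_
    · obtain ⟨o, ho, rfl⟩ := hw
      exact mem_sup_left (hOLn.conj_mem o ho k)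
    rintro _ ⟨r, hr, rfl⟩
    set r' : L := ⟨k * r * k⁻¹, hLn.conj_mem r hr.1 k⟩ with hr'
    have hzp : IsPGroup 2 (zpowers (q r')) := by
      obtain ⟨i, hi⟩ := hRp ⟨r, hr⟩
      have h2 : r' ^ 2 ^ i = 1 := Subtype.ext (by
        show (k * r * k⁻¹) ^ 2 ^ i = 1
        rw [conj_pow, show r ^ 2 ^ i = 1 from congrArg Subtype.val hi, mul_one, mul_inv_cancel])
      obtain ⟨j, -, hj⟩ := (Nat.dvd_prime_pow Nat.prime_two).1
        (orderOf_dvd_of_pow_eq_one (by rw [← map_pow, h2, map_one] : q r' ^ 2 ^ i = 1))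
      exact IsPGroup.of_card (n := j) (by rw [Nat.card_zpowers, hj])
    have h1 : q r' ∈ (RQ : Subgroup (L ⧸ Cfsg.oddCore L)) := by
      rw [← RQ.3 (hzp.to_sup_of_normal_right RQ.2) le_sup_right]
      exact mem_sup_left (mem_zpowers _)
    obtain ⟨s, hs, hsr⟩ := h1
    have h2 : r' * s⁻¹ ∈ Cfsg.oddCore L := (QuotientGroup.eq_one_iff _).1 (by
      show q (r' * s⁻¹) = 1
      rw [map_mul, map_inv, hsr, mul_inv_cancel])
    have h3 : k * r * k⁻¹ = ((r' * s⁻¹ : L) : X) * (s : X) :=
      (inv_mul_cancel_right (k * r * k⁻¹) (s : X)).symm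
    show k * r * k⁻¹ ∈ OL ⊔ R
    rw [h3]
    exact mul_mem (mem_sup_left ⟨_, h2, rfl⟩) (mem_sup_right (mem_subgroupOf.1 hs))
  have hfrat : ∀ k : X, ∃ o ∈ OL, ∃ m ∈ normalizer (R : Set X), k = o * m := by
    intro k
    obtain ⟨c, hc, m, hm, rfl⟩ := exists_mul_normalizer (C := OL ⊔ R) (T := R) le_sup_right hRp
      (fun Q hQ hQC hle => commutator_max P Q hQ (hQC.trans (sup_le (map_subtype_le _) inf_le_left))
        hle) (g := k) (by rw [normalizer_eq_top_iff.2 hCn]; exact mem_top k)
    obtain ⟨o, ho, r, hr, rfl⟩ := mem_sup_of_normal_left.1 hc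
    exact ⟨o, ho, r * m, mul_mem (le_normalizer hr) hm, mul_assoc _ _ _⟩
  -- the centralizer of `R`
  set Y := centralizer (R : Set X) with hY
  have hPY : (P : Subgroup X) ≤ Y := fun p hp =>
    mem_centralizer_iff.2 fun r hr => hab r hr.2 p hp
  let PY : Sylow 2 Y := P.subtype hPY
  have hYodd : Odd (Nat.card (commutator Y)) := by
    by_contra hev
    obtain ⟨t, ht⟩ := exists_prime_orderOf_dvd_card' (G := commutator Y) 2
      (even_iff_two_dvd.1 (Nat.not_odd_iff_even.1 hev))
    rw [← orderOf_coe] at ht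
    have hRY : commutator Y ⊓ (PY : Subgroup Y) = ⊥ := (eq_bot_iff_forall _).2 fun r hr => by
      refine eq_one_of_fixed PY (fun a ha b hb => Subtype.ext (hab _ ha _ hb)) hr.2 hr.1
        fun m _ => ?_
      have hrR : (r : X) ∈ R := ⟨by
        have h2 : (r : X) ∈ (commutator Y).map Y.subtype := ⟨r, hr.1, rfl⟩
        rw [Subgroup.map_subtype_commutator] at h2
        exact commutator_mono le_top le_top h2, hr.2⟩
      exact Subtype.ext (mem_centralizer_iff.1 m.2 r hrR).symm
    have h1 := commutator_max PY (zpowers t.1)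
      (IsPGroup.of_card (n := 1) (by rw [Nat.card_zpowers, ht, pow_one])) (zpowers_le.2 t.2)
      (hRY ▸ bot_le)
    rw [hRY, zpowers_eq_bot] at h1
    rw [h1, orderOf_one] at ht
    exact absurd ht (by decide)
  set DY := (commutator Y).map Y.subtype with hDY
  have hNY : ∀ k ∈ normalizer (R : Set X), k ∈ normalizer (Y : Set X) := fun k hk => by
    refine mem_normalizer_iff_map_conj_eq.2 (eq_of_le_of_card_ge ?_
      (card_map_of_injective (f := (MulAut.conj k).toMonoidHom) (MulAut.conj k).injective).ge)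
    rintro _ ⟨c, hc, rfl⟩
    refine mem_centralizer_iff.2 fun r hr => ?_
    have hr' : k⁻¹ * r * k ∈ R := by simpa using (mem_normalizer_iff.1 (inv_mem hk) r).1 hr
    have h1 := mem_centralizer_iff.1 hc _ hr'
    show r * (k * c * k⁻¹) = k * c * k⁻¹ * r
    calc r * (k * c * k⁻¹) = k * (k⁻¹ * r * k * c) * k⁻¹ := by group
      _ = k * (c * (k⁻¹ * r * k)) * k⁻¹ := by rw [h1]
      _ = k * c * k⁻¹ * r := by group
  have hDX : DY ≤ Cfsg.oddCore X := by
    have hoddD : Odd (Nat.card DY) := by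
      rw [hDY, card_map_of_injective Y.subtype_injective]; exact hYodd
    refine le_sup_right.trans (Bender.Core.le_oddCore (X := OL ⊔ DY) ?_
      (odd_sup (Bender.NormalPart.odd_coreMap L) hoddD))
    rw [← normalizer_eq_top_iff, eq_top_iff]
    intro k _
    obtain ⟨o, ho, m, hm, rfl⟩ := hfrat k
    refine mul_mem (le_normalizer (mem_sup_left ho : o ∈ OL ⊔ DY)) ?_
    refine mem_normalizer_iff_map_conj_eq.2 ?_
    rw [Subgroup.map_sup, mem_normalizer_iff_map_conj_eq.1
      (by rw [normalizer_eq_top_iff.2 hOLn]; exact mem_top m : m ∈ normalizer (OL : Set X))]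
    congr 1
    rw [hDY, Subgroup.map_subtype_commutator, map_commutator,
      mem_normalizer_iff_map_conj_eq.1 (hNY m hm)]
  obtain ⟨o, ho, k, hk, hgk⟩ := hfrat g
  obtain ⟨c, hc, m, hm, hkm⟩ := exists_mul_normalizer (C := Y) (T := (P : Subgroup X)) hPY P.2
    (fun Q hQ _ hle => P.3 hQ hle) (hNY k hk)
  obtain ⟨d, hd, l, hl, hcl⟩ := exists_commutator_mul_normalizer PY (⟨c, hc⟩ : Y)
  have hl' : (l : X) ∈ normalizer ((P : Subgroup X) : Set X) := by
    refine mem_normalizer_iff_map_conj_eq.2 (eq_of_le_of_card_ge ?_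
      (card_map_of_injective (f := (MulAut.conj (l : X)).toMonoidHom)
        (MulAut.conj (l : X)).injective).ge)
    rintro _ ⟨p, hp, rfl⟩
    exact (mem_normalizer_iff.1 hl ⟨p, hPY hp⟩).1 hp
  refine ⟨o * (d : X), mul_mem (hOX ho) (hDX ⟨d, hd, rfl⟩), (l : X) * m, mul_mem hl' hm, ?_⟩
  rw [hgk, hkm, show c = (d : X) * (l : X) from congrArg Subtype.val hcl]
  simp only [mul_assoc]

end CfsgLib.U3Type
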