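import Cfsg.Agent.U3Type.Data
import Cfsg.Agent.Coprime.Generation
import Cfsg.Agent.Coprime.Sylow
import Cfsg.Agent.S0205
import Cfsg.Agent.S0217

/-!
A group without odd core whose Sylow 2-subgroup is of unitary type: the centre, the quotient by it,
and signalizer functors given by odd cores of centralizers.
-/

set_option autoImplicit false
set_option linter.unusedSectionVars false
set_option linter.style.haveILetI false

namespace CfsgLib.U3Type

open Subgroup
open scoped Pointwise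

universe u

variable {G : Type u} [Group G] [Finite G]

/-- The standing hypotheses. -/
structure Hyp (S : Sylow 2 G) (n : ℕ) : Prop where
  n_le : 3 ≤ n
  facts : Facts ↥(S : Subgroup G) n
  oddBot : Cfsg.oddCore G = ⊥
  loc : ∀ e ∈ (S : Subgroup G), e * e = 1 → e ∉ center G → ∀ c ∈ centralizer ({e} : Set G),
    ∃ o ∈ core e, ∃ m ∈ normalizer ((S : Subgroup G) : Set G), c = o * m

local notation "π" => QuotientGroup.mk' (center G)

/-- The centre of the Sylow subgroup. -/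
def zs (S : Sylow 2 G) : Subgroup G := (S : Subgroup G) ⊓ centralizer ((S : Subgroup G) : Set G)

/-- The centralizer in the Sylow subgroup. -/
def cx (S : Sylow 2 G) (x : G) : Subgroup G := (S : Subgroup G) ⊓ centralizer {x}

variable {S : Sylow 2 G} {n : ℕ}

theorem cx_le (x : G) : cx S x ≤ (S : Subgroup G) := inf_le_left

theorem cx_le_centralizer (x : G) : cx S x ≤ centralizer {x} := inf_le_right

theorem mem_cx_self {x : G} (hx : x ∈ (S : Subgroup G)) : x ∈ cx S x :=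
  ⟨hx, mem_centralizer_singleton_iff.2 rfl⟩

variable (h : Hyp S n)
include h

theorem Hyp.central {e g : G} (he : e ∈ (S : Subgroup G)) (he2 : e * e = 1)
    (hg : g ∈ (S : Subgroup G)) : e * g = g * e :=
  congrArg Subtype.val (h.facts.central ⟨e, he⟩ (Subtype.ext he2) ⟨g, hg⟩)

theorem Hyp.sq_sq {g : G} (hg : g ∈ (S : Subgroup G)) : g * g * (g * g) = 1 :=
  congrArg Subtype.val (h.facts.sq_sq ⟨g, hg⟩)

theorem Hyp.cent {x a b : G} (hx : x ∈ (S : Subgroup G)) (hx2 : x * x ≠ 1) (ha : a ∈ cx S x)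
    (hb : b ∈ cx S x) : a * b = b * a :=
  congrArg Subtype.val (h.facts.cent ⟨x, hx⟩ (fun e => hx2 (congrArg Subtype.val e)) ⟨a, ha.1⟩
    ⟨b, hb.1⟩ (Subtype.ext (mem_centralizer_singleton_iff.1 ha.2))
    (Subtype.ext (mem_centralizer_singleton_iff.1 hb.2)))

theorem Hyp.comm_sq {g k : G} (hg : g ∈ (S : Subgroup G)) (hk : k ∈ (S : Subgroup G)) :
    g * k * g⁻¹ * k⁻¹ * (g * k * g⁻¹ * k⁻¹) = 1 :=
  congrArg Subtype.val (h.facts.comm_sq ⟨g, hg⟩ ⟨k, hk⟩)

theorem Hyp.card_cx {x : G} (hx : x ∈ (S : Subgroup G)) (hx2 : x * x ≠ 1) :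
    Nat.card (cx S x) = (2 ^ n) ^ 2 := by
  rw [← h.facts.cent_card ⟨x, hx⟩ fun e => hx2 (congrArg Subtype.val e)]
  exact Nat.card_congr
    { toFun := fun k => ⟨⟨k.1, k.2.1⟩, Subtype.ext (mem_centralizer_singleton_iff.1 k.2.2)⟩
      invFun := fun k => ⟨k.1.1, k.1.2, mem_centralizer_singleton_iff.2 (congrArg Subtype.val k.2)⟩
      left_inv := fun _ => rfl
      right_inv := fun _ => rfl }

theorem Hyp.exists_x : ∃ x ∈ (S : Subgroup G), x * x ≠ 1 := by
  by_contra hno
  push Not at hno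
  have h1 : Nat.card {g : ↥(S : Subgroup G) // g * g = 1} = Nat.card ↥(S : Subgroup G) :=
    Nat.card_congr (Equiv.subtypeUnivEquiv fun g => Subtype.ext (hno g g.2))
  rw [h.facts.card_inv, h.facts.card, ← pow_mul] at h1
  have := Nat.pow_right_injective le_rfl h1
  have := h.n_le
  omega

theorem Hyp.mem_zs {g : G} : g ∈ zs S ↔ g ∈ (S : Subgroup G) ∧ g * g = 1 := by
  refine ⟨fun hg => ⟨hg.1, ?_⟩, fun hg => ⟨hg.1, mem_centralizer_iff.2 fun k hk =>
    (h.central hg.1 hg.2 hk).symm⟩⟩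
  by_contra h2
  have h3 : cx S g = (S : Subgroup G) := le_antisymm inf_le_left fun k hk =>
    ⟨hk, mem_centralizer_singleton_iff.2 (mem_centralizer_iff.1 hg.2 k hk)⟩
  have h4 := h.card_cx hg.1 h2
  rw [h3, h.facts.card, ← pow_mul, ← pow_mul] at h4
  have := Nat.pow_right_injective le_rfl h4
  have := h.n_le
  omega

theorem Hyp.card_zs : Nat.card (zs S) = 2 ^ n := by
  rw [← h.facts.card_inv]
  exact Nat.card_congr
    { toFun := fun k => ⟨⟨k.1, k.2.1⟩, Subtype.ext (h.mem_zs.1 k.2).2⟩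
      invFun := fun k => ⟨k.1.1, h.mem_zs.2 ⟨k.1.2, congrArg Subtype.val k.2⟩⟩
      left_inv := fun _ => rfl
      right_inv := fun _ => rfl }

theorem Hyp.center_le : center G ≤ (S : Subgroup G) := by
  haveI : Fact (Nat.Prime 2) := ⟨Nat.prime_two⟩
  intro z hz
  obtain ⟨i, r, hr, hzo⟩ := Nat.exists_eq_two_pow_mul_odd (orderOf_pos z).ne'
  -- the odd part is trivial
  have h1 : z ^ 2 ^ i = 1 := by
    set w := z ^ 2 ^ i with hw
    have hwc : w ∈ center G := pow_mem hz _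
    have hn : (zpowers w).Normal := ⟨fun k hk g => by
      have : g * k = k * g := mem_center_iff.1 (zpowers_le.2 hwc hk) g
      rw [this, mul_inv_cancel_right]; exact hk⟩
    have hodd : Odd (Nat.card (zpowers w)) := by
      rw [Nat.card_zpowers]
      exact hr.of_dvd_nat (orderOf_dvd_of_pow_eq_one (by
        rw [hw, ← pow_mul, ← hzo, pow_orderOf_eq_one]))
    exact (Subgroup.mem_bot.1 (h.oddBot ▸ Bender.Core.le_oddCore hn hodd (mem_zpowers w)) :)
  have hz2 : IsPGroup 2 (zpowers z) := by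
    obtain ⟨j, -, hj⟩ := (Nat.dvd_prime_pow Nat.prime_two).1 (orderOf_dvd_of_pow_eq_one h1)
    exact IsPGroup.of_card (n := j) (by rw [Nat.card_zpowers, hj])
  have hn : zpowers z ≤ normalizer ((S : Subgroup G) : Set G) :=
    zpowers_le.2 (centralizer_le_normalizer _ (mem_centralizer_iff.2 fun k _ => mem_center_iff.1 hz k))
  rw [← S.3 (hz2.to_sup_of_normal_right' S.2 hn) le_sup_right]
  exact mem_sup_left (mem_zpowers z)

theorem Hyp.center_le_zs : center G ≤ zs S := fun z hz =>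
  ⟨h.center_le hz, mem_centralizer_iff.2 fun k _ => mem_center_iff.1 hz k⟩

theorem Hyp.center_sq {z : G} (hz : z ∈ center G) : z * z = 1 := (h.mem_zs.1 (h.center_le_zs hz)).2

theorem Hyp.center_two : IsPGroup 2 (center G) := fun z => ⟨1, Subtype.ext (by
  rw [pow_one, sq]; exact h.center_sq z.2)⟩

theorem Hyp.zs_le_cx {x : G} (hx : x ∈ (S : Subgroup G)) : zs S ≤ cx S x := fun g hg =>
  ⟨hg.1, mem_centralizer_singleton_iff.2 (mem_centralizer_iff.1 hg.2 x hx).symm⟩

theorem Hyp.center_le_cx {x : G} (hx : x ∈ (S : Subgroup G)) : center G ≤ cx S x :=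
  h.center_le_zs.trans (h.zs_le_cx hx)

theorem Hyp.sq_mem_zs {g : G} (hg : g ∈ (S : Subgroup G)) : g * g ∈ zs S :=
  h.mem_zs.2 ⟨mul_mem hg hg, h.sq_sq hg⟩

/-- Every involution of `C_S(x)` is a square in it. -/
theorem Hyp.exists_sqrt_cx {x e : G} (hx : x ∈ (S : Subgroup G)) (hx2 : x * x ≠ 1)
    (he : e ∈ zs S) : ∃ p ∈ cx S x, p * p = e := by
  let f : cx S x →* zs S := MonoidHom.mk' (fun p => ⟨p.1 * p.1, h.sq_mem_zs p.2.1⟩) fun a b =>
    Subtype.ext (by
      show (a.1 * b.1) * (a.1 * b.1) = a.1 * a.1 * (b.1 * b.1)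
      calc (a.1 * b.1) * (a.1 * b.1) = a.1 * (b.1 * a.1) * b.1 := by group
        _ = a.1 * (a.1 * b.1) * b.1 := by rw [h.cent hx hx2 b.2 a.2]
        _ = a.1 * a.1 * (b.1 * b.1) := by group)
  have hker : Nat.card f.ker = 2 ^ n := by
    rw [← h.card_zs]
    exact Nat.card_congr
      { toFun := fun k => ⟨k.1.1, h.mem_zs.2 ⟨k.1.2.1, congrArg Subtype.val k.2⟩⟩
        invFun := fun k => ⟨⟨k.1, h.zs_le_cx hx k.2⟩, Subtype.ext (h.mem_zs.1 k.2).2⟩
        left_inv := fun _ => rfl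
        right_inv := fun _ => rfl }
  have hr : Nat.card f.range = Nat.card (zs S) := by
    have h1 := f.ker.card_mul_index
    rw [index_ker, hker, h.card_cx hx hx2, sq] at h1
    rw [h.card_zs]
    exact Nat.eq_of_mul_eq_mul_left (by positivity) h1
  obtain ⟨p, hp⟩ := (eq_top_of_card_eq f.range hr).ge (mem_top (⟨e, he⟩ : zs S))
  exact ⟨p, p.2, congrArg Subtype.val hp⟩

/-- `S` normalizes `C_S(x)`. -/
theorem Hyp.conj_mem_cx {x g p : G} (hx : x ∈ (S : Subgroup G)) (hg : g ∈ (S : Subgroup G))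
    (hp : p ∈ cx S x) : g * p * g⁻¹ ∈ cx S x := by
  have hc : g * p * g⁻¹ * p⁻¹ ∈ cx S x := h.zs_le_cx hx (h.mem_zs.2
    ⟨mul_mem (mul_mem (mul_mem hg hp.1) (inv_mem hg)) (inv_mem hp.1), h.comm_sq hg hp.1⟩)
  simpa using mul_mem hc hp

/-- `C_S(y) = C_S(x)` for the elements of order four of `C_S(x)`. -/
theorem Hyp.cx_eq {x y : G} (hx : x ∈ (S : Subgroup G)) (hx2 : x * x ≠ 1) (hy : y ∈ cx S x)
    (hy2 : y * y ≠ 1) : cx S y = cx S x := by
  have hle : cx S x ≤ cx S y := fun p hp => ⟨hp.1, mem_centralizer_singleton_iff.2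
    (h.cent hx hx2 hp hy)⟩
  refine (eq_of_le_of_card_ge hle ?_).symm
  rw [h.card_cx hx hx2, h.card_cx hy.1 hy2]

/-- `C_S(x)` is a Sylow 2-subgroup of `C(x)`. -/
theorem Hyp.cx_max {x : G} (hx : x ∈ (S : Subgroup G)) (hx2 : x * x ≠ 1) (Q : Subgroup G)
    (hQ : IsPGroup 2 Q) (hQc : Q ≤ centralizer {x}) (hle : cx S x ≤ Q) : Q = cx S x := by
  haveI : Fact (Nat.Prime 2) := ⟨Nat.prime_two⟩
  obtain ⟨R, hR⟩ := hQ.exists_le_sylow
  refine (eq_of_le_of_card_ge hle ?_).symm
  have hxR : x ∈ (R : Subgroup G) := hR (hle (mem_cx_self hx))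
  have hRf := h.facts.congr (S.equiv R)
  rw [h.card_cx hx hx2, ← hRf.cent_card ⟨x, hxR⟩ fun e => hx2 (congrArg Subtype.val e)]
  exact Nat.card_le_card_of_injective
    (fun k => ⟨⟨k.1, hR k.2⟩, Subtype.ext (mem_centralizer_singleton_iff.1 (hQc k.2))⟩)
    fun a b e => Subtype.ext (congrArg (fun k => k.1.1) e)

omit h in
/-- A normalizing element of odd order centralizing a subgroup. -/
theorem rigid {T : Subgroup G} {m : G} (hm : m ∈ normalizer (T : Set G)) (hmo : Odd (orderOf m))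
    {n : ℕ} (hT : Facts ↥T n) {x : G} (hx : x ∈ T)
    (hfix : ∀ p ∈ T, p * x = x * p → m * p = p * m) : m ∈ centralizer (T : Set G) := by
  let α : MulAut T := T.normalizerMonoidHom ⟨m, hm⟩
  have h1 : α = 1 := hT.aut_fix (x := ⟨x, hx⟩) α hmo
    (by rw [show α = T.normalizerMonoidHom ⟨m, hm⟩ from rfl, ← map_pow,
      show (⟨m, hm⟩ : normalizer (T : Set G)) ^ orderOf m = 1 from
        Subtype.ext (pow_orderOf_eq_one m), map_one])
    fun p hp => Subtype.ext (show m * p.1 * m⁻¹ = p.1 by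
      rw [hfix p p.2 (congrArg Subtype.val hp), mul_inv_cancel_right])
  refine mem_centralizer_iff.2 fun s hs => ?_
  have h2 : m * s * m⁻¹ = s := congrArg (fun β : MulAut T => (β ⟨s, hs⟩ : G)) h1
  exact (mul_inv_eq_iff_eq_mul.1 h2).symm

/-- An odd subgroup of the centralizer of an involution of `S` normalized by `C_S(x)`. -/
theorem Hyp.inv_inv {e : G} (he : e ∈ zs S) (heU : e ∉ center G) {Q : Subgroup G}
    (hQS : Q ≤ (S : Subgroup G)) {x : G} (hx : x ∈ (S : Subgroup G)) (hQ : cx S x ≤ Q)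
    {D : Subgroup G} (hD : D ≤ centralizer {e}) (hodd : Odd (Nat.card D))
    (hn : ∀ p ∈ Q, ∀ d ∈ D, p * d * p⁻¹ ∈ D) : D ≤ core e := by
  haveI : Fact (Nat.Prime 2) := ⟨Nat.prime_two⟩
  obtain ⟨heS, he2⟩ := h.mem_zs.1 he
  set X := centralizer ({e} : Set G) with hX
  have hSX : (S : Subgroup G) ≤ X := fun k hk =>
    mem_centralizer_singleton_iff.2 (h.central heS he2 hk).symm
  let SX : Sylow 2 X := S.subtype hSX
  have hmem : ∀ k : X, k ∈ (SX : Subgroup X) ↔ (k : G) ∈ (S : Subgroup G) := fun k => Iff.rfl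
  have hdec : ∀ g : X, ∃ o ∈ Cfsg.oddCore X, ∃ m ∈ normalizer ((SX : Subgroup X) : Set X),
      g = o * m := by
    intro g
    obtain ⟨o, ho, m, hm, hg⟩ := h.loc e heS he2 heU g g.2
    obtain ⟨o', ho', rfl⟩ := ho
    have hmX : m ∈ X := by
      rw [show m = (o' : G)⁻¹ * (g : G) by rw [hg]; exact (inv_mul_cancel_left _ _).symm]
      exact mul_mem (inv_mem o'.2) g.2
    exact ⟨o', ho', ⟨m, hmX⟩, mem_normalizer_iff.2 fun k => mem_normalizer_iff.1 hm k.1,
      Subtype.ext hg⟩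
  have hle := le_oddCore_of_inv SX (Q := Q.subgroupOf X) (D := D.subgroupOf X)
    (fun k hk => (hmem k).2 (hQS hk)) hdec (fun m hm hmo hc => ?_)
    (by rw [Nat.card_congr (subgroupOfEquivOfLe hD).toEquiv]; exact hodd)
    (fun p hp d hd => hn p hp d hd)
  · exact fun d hd => ⟨⟨d, hD hd⟩, hle hd, rfl⟩
  · have hm' : (m : G) ∈ normalizer ((S : Subgroup G) : Set G) := mem_normalizer_iff.2 fun k => by
      constructor
      · exact fun hk => (mem_normalizer_iff.1 hm ⟨k, hSX hk⟩).1 hk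
      · intro hk
        have hkX : k ∈ X := by
          have := mul_mem (mul_mem (inv_mem m.2) (hSX hk)) m.2
          simpa [mul_assoc] using this
        exact (mem_normalizer_iff.1 hm ⟨k, hkX⟩).2 hk
    have hc' : (m : G) ∈ centralizer ((S : Subgroup G) : Set G) := rigid hm'
      (by rwa [orderOf_coe]) h.facts hx fun p hp hpx => by
        have hpX : p ∈ X := hSX hp
        exact congrArg Subtype.val (hc ⟨p, hpX⟩ (hQ ⟨hp, mem_centralizer_singleton_iff.2 hpx⟩))
    exact mem_centralizer_iff.2 fun k hk => Subtype.ext (mem_centralizer_iff.1 hc' k.1 hk)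

/-- Elements of odd order commute as soon as they do modulo the centre. -/
theorem Hyp.commute_lift {d b : G} (hd : Odd (orderOf d))
    (hc : d * b * d⁻¹ * b⁻¹ ∈ center G) : d * b = b * d := by
  set u := d * b * d⁻¹ * b⁻¹ with hu
  have hdb : d * b * d⁻¹ = b * u := by
    rw [mem_center_iff.1 hc b, hu, inv_mul_cancel_right]
  have hpow : ∀ j : ℕ, d ^ j * b * (d ^ j)⁻¹ = b * u ^ j := by
    intro j
    induction j with
    | zero => simp
    | succ j ih =>
      calc d ^ (j + 1) * b * (d ^ (j + 1))⁻¹ = d ^ j * (d * b * d⁻¹) * (d ^ j)⁻¹ := by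
            rw [pow_succ]; group
        _ = d ^ j * b * (u * (d ^ j)⁻¹) := by rw [hdb]; group
        _ = d ^ j * b * ((d ^ j)⁻¹ * u) := by rw [mem_center_iff.1 hc (d ^ j)⁻¹]
        _ = b * u ^ (j + 1) := by rw [← mul_assoc, ih, mul_assoc, ← pow_succ]
  have h1 := hpow (orderOf d)
  rw [pow_orderOf_eq_one, one_mul, inv_one, mul_one, left_eq_mul] at h1
  have h2 : u = 1 := Bender.Consumers.eq_one_of_two_of_odd (i := 1)
    (hd.of_dvd_nat (orderOf_dvd_of_pow_eq_one h1)) (by rw [pow_one, sq, h.center_sq hc])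
  rw [h2, mul_one] at hdb
  exact mul_inv_eq_iff_eq_mul.1 hdb

theorem Hyp.oddCore_quot : Cfsg.oddCore (G ⧸ center G) = ⊥ := by
  set N := Cfsg.oddCore (G ⧸ center G) with hN
  have hNodd : Odd (Nat.card N) := IsoApps.odd_oddCore
  set K := N.comap π with hK
  have hZK : center G ≤ K := fun z hz => by
    show π z ∈ N
    rw [show π z = 1 from (QuotientGroup.eq_one_iff z).2 hz]; exact one_mem _
  set Z := (center G).subgroupOf K with hZ
  have hidx : Odd Z.index := by
    have h1 : (center G).relIndex K = Nat.card N := by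
      have h := relIndex_ker K π
      rwa [map_comap_eq_self_of_surjective (QuotientGroup.mk'_surjective _),
        QuotientGroup.ker_mk'] at h
    rw [hZ, ← relIndex, h1]
    exact hNodd
  have hZp : IsPGroup 2 Z := fun k => ⟨1, Subtype.ext (Subtype.ext (by
    rw [pow_one, sq]; exact h.center_sq k.2))⟩
  let L : Subgroup G :=
    { carrier := {g | g ∈ K ∧ Odd (orderOf g)}
      one_mem' := ⟨one_mem _, by rw [orderOf_one]; exact odd_one⟩
      mul_mem' := fun {a b} ha hb => ⟨mul_mem ha.1 hb.1, by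
        have := odd_mul_of_central (Z := Z) (fun z hz g => Subtype.ext
          (mem_center_iff.1 (show (z : G) ∈ center G from hz) (g : G)).symm) hZp hidx (a := ⟨a, ha.1⟩) (b := ⟨b, hb.1⟩)
          (by rw [orderOf_mk]; exact ha.2) (by rw [orderOf_mk]; exact hb.2)
        rwa [MulMemClass.mk_mul_mk, orderOf_mk] at this⟩
      inv_mem' := fun {a} ha => ⟨inv_mem ha.1, by rw [orderOf_inv]; exact ha.2⟩ }
  have hLn : L.Normal := ⟨fun g hg k => ⟨
    (Normal.comap (inferInstance : N.Normal) π).conj_mem g hg.1 k,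
    by rw [Invol.orderOf_conj_eq]; exact hg.2⟩⟩
  have hL : L = ⊥ := le_bot_iff.1 (h.oddBot ▸ Bender.Core.le_oddCore hLn
    (odd_card_of_orderOf fun g hg => hg.2))
  refine (eq_bot_iff_forall _).2 fun w hw => ?_
  obtain ⟨g, rfl⟩ := QuotientGroup.mk_surjective w
  obtain ⟨j, hj⟩ := hNodd.of_dvd_nat (Subgroup.orderOf_dvd_natCard _ hw)
  obtain ⟨i, r, hr, hgo⟩ := Nat.exists_eq_two_pow_mul_odd (orderOf_pos g).ne'
  have hgK : g ∈ K := hw
  have h1 : g ^ 2 ^ i ∈ L := ⟨pow_mem hgK _, hr.of_dvd_nat (orderOf_dvd_of_pow_eq_one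
    (by rw [← pow_mul, ← hgo, pow_orderOf_eq_one]))⟩
  rw [hL, mem_bot] at h1
  refine Bender.Consumers.eq_one_of_two_of_odd (i := i) ⟨j, hj⟩ ?_
  rw [← QuotientGroup.mk_pow, h1, QuotientGroup.mk_one]

omit h in
theorem core_mul_center (a : G) {z : G} (hz : z ∈ center G) : core (a * z) = core a := by
  have h1 : centralizer ({a * z} : Set G) = centralizer {a} := by
    ext g
    rw [mem_centralizer_singleton_iff, mem_centralizer_singleton_iff, ← mul_assoc, mul_assoc a z,
      ← mem_center_iff.1 hz g, ← mul_assoc, mul_left_inj]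
  unfold core
  rw [h1]

omit h in
/-- The subgroup of the quotient generated by the odd cores. -/
def wsub (B : Subgroup G) : Subgroup (G ⧸ center G) :=
  ⨆ b : {b : G // b ∈ B ∧ b ∉ center G}, (core (b : G)).map π

omit h in
theorem le_wsub {B : Subgroup G} {b : G} (hb : b ∈ B) (hbU : b ∉ center G) :
    (core b).map π ≤ wsub B :=
  le_iSup (fun b : {b : G // b ∈ B ∧ b ∉ center G} => (core (b : G)).map π) ⟨b, hb, hbU⟩

omit h in
theorem conj_wsub_le {B B' : Subgroup G} (g : G) (hg : ∀ b ∈ B, g * b * g⁻¹ ∈ B') :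
    (wsub B).map (MulAut.conj (π g)).toMonoidHom ≤ wsub B' := by
  rw [wsub, Subgroup.map_iSup]
  refine iSup_le fun b => ?_
  rintro _ ⟨_, ⟨d, hd, rfl⟩, rfl⟩
  have hU : g * (b : G) * g⁻¹ ∉ center G := fun hc => b.2.2 (by
    have := (inferInstance : (center G).Normal).conj_mem _ hc g⁻¹
    simpa [mul_assoc] using this)
  exact le_wsub (hg b b.2.1) hU ⟨g * d * g⁻¹, core_conj_le g b ⟨d, hd, rfl⟩, by simp⟩

omit h in
theorem mem_normalizer_wsub {B : Subgroup G} (g : G) (hg : ∀ b ∈ B, g * b * g⁻¹ ∈ B) :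
    π g ∈ normalizer (wsub B : Set (G ⧸ center G)) :=
  mem_normalizer_iff_map_conj_eq.2 (eq_of_le_of_card_ge (conj_wsub_le g hg)
    (card_map_of_injective (f := (MulAut.conj (π g)).toMonoidHom) (MulAut.conj (π g)).injective).ge)

/-- The signalizer functor of odd cores on an abelian subgroup. -/
theorem Hyp.functor {B Q : Subgroup G} (hBab : ∀ a ∈ B, ∀ b ∈ B, a * b = b * a)
    (hB2 : ∀ b ∈ B, b * b ∈ center G) (hZB : center G ≤ B)
    (hcard : 8 * Nat.card (center G) ≤ Nat.card B) (hQB : ∀ p ∈ Q, ∀ b ∈ B, p * b = b * p)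
    (hinv : ∀ b ∈ B, b ∉ center G → ∀ D : Subgroup G, D ≤ centralizer {b} → Odd (Nat.card D) →
      (∀ p ∈ Q, ∀ d ∈ D, p * d * p⁻¹ ∈ D) → D ≤ core b) :
    Odd (Nat.card (wsub B)) ∧ ∀ b ∈ B, b ∉ center G →
      wsub B ⊓ centralizer {π b} = (core b).map π := by
  haveI : Fact (Nat.Prime 2) := ⟨Nat.prime_two⟩
  let θ : G ⧸ center G → Subgroup (G ⧸ center G) := fun a => (core (Quotient.out a)).map π
  have hθ : ∀ b : G, θ (π b) = (core b).map π := fun b => by
    obtain ⟨z, hz⟩ := QuotientGroup.mk_out_eq_mul (center G) b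
    show (core (Quotient.out (π b))).map π = _
    rw [show Quotient.out (π b) = b * (z : G) from hz, core_mul_center b z.2]
  have hne : ∀ b : G, π b ≠ 1 ↔ b ∉ center G := fun b => (QuotientGroup.eq_one_iff b).not
  set A := B.map π with hA
  have hsup : (⨆ a : {a // a ∈ A ∧ a ≠ 1}, θ a) = wsub B := by
    refine le_antisymm (iSup_le fun a => ?_) (iSup_le fun b => ?_)
    · obtain ⟨b, hb, hba⟩ := a.2.1
      rw [← hba, hθ]
      exact le_wsub hb ((hne b).1 (hba.symm ▸ a.2.2))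
    · exact (hθ b).ge.trans (le_iSup (fun a : {a // a ∈ A ∧ a ≠ 1} => θ a)
        ⟨π b, ⟨b, b.2.1, rfl⟩, (hne b).2 b.2.2⟩)
  have hodd : ∀ b : G, Odd (Nat.card ((core b).map π)) := fun b =>
    (odd_core b).of_dvd_nat (card_map_dvd _ _)
  have hrank : 2 ^ 3 ≤ Nat.card A := by
    have h1 := ((π).comp B.subtype).ker.card_mul_index
    rw [index_ker] at h1
    have h2 : Nat.card ((π).comp B.subtype).ker = Nat.card (center G) := Nat.card_congr
      { toFun := fun k => ⟨k.1.1, (QuotientGroup.eq_one_iff _).1 k.2⟩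
        invFun := fun k => ⟨⟨k.1, hZB k.2⟩, (QuotientGroup.eq_one_iff _).2 k.2⟩
        left_inv := fun _ => rfl
        right_inv := fun _ => rfl }
    rw [h2, MonoidHom.range_comp, range_subtype, ← hA] at h1
    have hpos : 0 < Nat.card (center G) := Nat.card_pos
    nlinarith
  have key := Cfsg.Agent.S0217.result (p := 2) A
    (by rintro _ ⟨a, ha, rfl⟩ _ ⟨b, hb, rfl⟩; rw [← map_mul, hBab a ha b hb, map_mul])
    (by rintro _ ⟨a, ha, rfl⟩; rw [sq, ← map_mul]; exact (QuotientGroup.eq_one_iff _).2 (hB2 a ha))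
    hrank θ
    (by
      rintro _ ⟨b, hb, rfl⟩ -
      rw [hθ]
      rintro _ ⟨d, hd, rfl⟩
      rw [mem_centralizer_singleton_iff, ← map_mul, ← map_mul,
        mem_centralizer_singleton_iff.1 (core_le b hd)])
    (by
      rintro _ ⟨b, hb, rfl⟩ -
      rw [hθ]
      exact fun hd => Nat.not_even_iff_odd.2 (hodd b) (even_iff_two_dvd.2 hd))
    (by
      rintro _ ⟨b, hb, rfl⟩ - _ ⟨c, hc, rfl⟩ w hw
      rw [hθ] at hw ⊢
      obtain ⟨d, hd, rfl⟩ := hw
      exact ⟨c * d * c⁻¹, conj_mem_core (mem_centralizer_singleton_iff.2 (hBab c hc b hb)) hd,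
        by simp⟩)
    (by
      rintro _ ⟨b, hb, rfl⟩ -
      rw [hθ]
      exact Cfsg.Agent.S0205.result (hodd b))
    (by
      rintro _ ⟨a, ha, rfl⟩ ha1 _ ⟨b, hb, rfl⟩ hb1 w hw
      obtain ⟨hw1, hw2⟩ := mem_inf.1 hw
      rw [hθ] at hw1 ⊢
      obtain ⟨d, hd, rfl⟩ := hw1
      refine ⟨d, ?_, rfl⟩
      have hdo : Odd (orderOf d) := (odd_core a).of_dvd_nat (orderOf_dvd_natCard _ hd)
      have hdb : d * b = b * d := h.commute_lift hdo ((QuotientGroup.eq_one_iff _).1 (by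
        show π (d * b * d⁻¹ * b⁻¹) = 1
        rw [map_mul, map_mul, map_mul, mem_centralizer_singleton_iff.1 hw2, map_inv, map_inv,
          mul_inv_cancel_right, mul_inv_cancel]))
      refine hinv b hb ((hne b).1 hb1) (core a ⊓ centralizer {b}) inf_le_right
        ((odd_core a).of_dvd_nat (card_dvd_of_le inf_le_left)) ?_
        ⟨hd, mem_centralizer_singleton_iff.2 hdb⟩
      intro p hp k hk
      have hpc : p ∈ centralizer ({b} : Set G) := mem_centralizer_singleton_iff.2 (hQB p hp b hb)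
      exact ⟨conj_mem_core (mem_centralizer_singleton_iff.2 (hQB p hp a ha)) hk.1,
        (centralizer ({b} : Set G)).mul_mem ((centralizer ({b} : Set G)).mul_mem hpc hk.2) ((centralizer ({b} : Set G)).inv_mem hpc)⟩)
  rw [hsup] at key
  refine ⟨Nat.not_even_iff_odd.1 fun he => key.1 he.two_dvd, fun b hb hbU => ?_⟩
  rw [key.2 _ ⟨b, hb, rfl⟩ ((hne b).2 hbU), hθ]

/-- The centralizer in the quotient, from the centralizer and the normalizer of its Sylow group. -/
theorem Hyp.centralizer_quot_le {M : Subgroup (G ⧸ center G)} {a : G} {T : Subgroup G}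
    (hTC : T ≤ centralizer {a}) (hT : IsPGroup 2 T)
    (hmax : ∀ Q : Subgroup G, IsPGroup 2 Q → Q ≤ centralizer {a} → T ≤ Q → Q = T)
    (hC : ∀ c ∈ centralizer ({a} : Set G), π c ∈ M)
    (hN : ∀ m ∈ normalizer (T : Set G), m * a * m⁻¹ * a⁻¹ ∈ center G → π m ∈ M) :
    centralizer {π a} ≤ M := by
  intro w hw
  obtain ⟨g, rfl⟩ := QuotientGroup.mk_surjective w
  have hg : g * a * g⁻¹ * a⁻¹ ∈ center G := (QuotientGroup.eq_one_iff _).1 (by
    show π (g * a * g⁻¹ * a⁻¹) = 1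
    rw [map_mul, map_mul, map_mul, map_inv, map_inv]
    rw [show π g * π a = π a * π g from mem_centralizer_singleton_iff.1 hw,
      mul_inv_cancel_right, mul_inv_cancel])
  set z := g * a * g⁻¹ * a⁻¹ with hz
  have hga : g * a * g⁻¹ = z * a := (inv_mul_cancel_right _ _).symm
  have hgn : g ∈ normalizer (centralizer ({a} : Set G) : Set G) := by
    refine mem_normalizer_iff_map_conj_eq.2 (eq_of_le_of_card_ge ?_
      (card_map_of_injective (f := (MulAut.conj g).toMonoidHom) (MulAut.conj g).injective).ge)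
    rintro _ ⟨c, hc, rfl⟩
    show g * c * g⁻¹ ∈ centralizer ({a} : Set G)
    have h1 : g * c * g⁻¹ * (g * a * g⁻¹) = g * a * g⁻¹ * (g * c * g⁻¹) := by
      calc g * c * g⁻¹ * (g * a * g⁻¹) = g * (c * a) * g⁻¹ := by group
        _ = g * (a * c) * g⁻¹ := by rw [mem_centralizer_singleton_iff.1 hc]
        _ = g * a * g⁻¹ * (g * c * g⁻¹) := by group
    rw [hga, ← mul_assoc, mem_center_iff.1 hg, mul_assoc, mul_assoc z a] at h1
    exact mem_centralizer_singleton_iff.2 (mul_left_cancel h1)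
  obtain ⟨c, hc, m, hm, rfl⟩ := exists_mul_normalizer hTC hT hmax hgn
  show π (c * m) ∈ M
  rw [map_mul]
  refine mul_mem (hC c hc) (hN m hm ?_)
  -- `m` moves `a` by the same central element
  have h2 : z * a = m * a * m⁻¹ := by
    calc z * a = z * (c⁻¹ * (c * a)) := by group
      _ = z * (c⁻¹ * (a * c)) := by rw [mem_centralizer_singleton_iff.1 hc]
      _ = z * c⁻¹ * (a * c) := (mul_assoc _ _ _).symm
      _ = c⁻¹ * z * (a * c) := by rw [mem_center_iff.1 hg c⁻¹]
      _ = c⁻¹ * (z * a) * c := by group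
      _ = m * a * m⁻¹ := by rw [← hga]; group
  rw [← h2, mul_inv_cancel_right]
  exact hg

omit h in
/-- An odd subgroup lies in `M` with the fixed points of a noncyclic abelian group. -/
theorem le_of_fixed {H : Type u} [Group H] [Finite H] {A D M : Subgroup H}
    (hab : ∀ a ∈ A, ∀ b ∈ A, a * b = b * a) (hA2 : ∀ a ∈ A, a * a = 1) (hA : 4 ≤ Nat.card A)
    (hD : Odd (Nat.card D)) (hn : ∀ a ∈ A, ∀ d ∈ D, a * d * a⁻¹ ∈ D)
    (hfix : ∀ a ∈ A, a ≠ 1 → ∀ d ∈ D, d * a = a * d → d ∈ M) : D ≤ M := by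
  haveI : Fact (Nat.Prime 2) := ⟨Nat.prime_two⟩
  letI : CommGroup A := { (inferInstance : Group A) with
    mul_comm := fun x y => Subtype.ext (hab x x.2 y y.2) }
  have hnc : ¬ IsCyclic A := fun hc => by
    obtain ⟨g, hg⟩ := hc.exists_ofOrder_eq_natCard
    have h2 : orderOf g ≤ 2 := orderOf_le_of_pow_eq_one two_pos
      (Subtype.ext (by rw [sq]; exact hA2 g g.2) : g ^ 2 = 1)
    omega
  let act : MulDistribMulAction A D :=
    { smul := fun a d => ⟨a.1 * d.1 * a.1⁻¹, hn a a.2 d d.2⟩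
      one_smul := fun d => Subtype.ext (by show (1 : H) * d.1 * (1 : H)⁻¹ = d.1; group)
      mul_smul := fun a b d => Subtype.ext (by
        show a.1 * b.1 * d.1 * (a.1 * b.1)⁻¹ = a.1 * (b.1 * d.1 * b.1⁻¹) * a.1⁻¹; group)
      smul_one := fun a => Subtype.ext (by show a.1 * 1 * a.1⁻¹ = (1 : H); group)
      smul_mul := fun a d e => Subtype.ext (by
        show a.1 * (d.1 * e.1) * a.1⁻¹ = a.1 * d.1 * a.1⁻¹ * (a.1 * e.1 * a.1⁻¹); group) }
  have hA2' : IsPGroup 2 A := fun a => ⟨1, Subtype.ext (by rw [pow_one, sq]; exact hA2 a a.2)⟩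
  obtain ⟨k, hk⟩ := IsPGroup.iff_card.1 hA2'
  have hcop : (Nat.card A).Coprime (Nat.card D) := by
    rw [hk]; exact (Nat.coprime_two_left.2 hD).pow_left k
  have htop := Coprime.closure_fixed_eq_top (A := A) (G := D) hnc hcop
  intro d hd
  have hle : (Subgroup.closure {g : D | ∃ a : A, a ≠ 1 ∧ a • g = g}) ≤ M.subgroupOf D := by
    rw [closure_le]
    rintro g ⟨a, ha, hag⟩
    refine hfix a a.2 (fun e => ha (Subtype.ext e)) g g.2 ?_
    have h1 : a.1 * g.1 * a.1⁻¹ = g.1 := congrArg Subtype.val hag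
    exact (mul_inv_eq_iff_eq_mul.1 h1).symm
  exact hle (htop ▸ mem_top (⟨d, hd⟩ : D))

end CfsgLib.U3Type
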