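import Cfsg.Agent.U3Type.Big
import Cfsg.Agent.U3Type.Dec

/-!
The case of a large centre: the functors on the elements of `C_S(x)` with central square.
-/

set_option autoImplicit false
set_option linter.unusedSectionVars false
set_option linter.style.haveILetI false

namespace CfsgLib.U3Type

open Subgroup
open scoped Pointwise

universe u

variable {G : Type u} [Group G] [Finite G] {S : Sylow 2 G} {n : ℕ}

local notation "π" => QuotientGroup.mk' (center G)

/-- The elements of odd order over an odd subgroup of the quotient by the centre. -/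
theorem Hyp.exists_oddLift (h : Hyp S n) {N : Subgroup (G ⧸ center G)} (hN : Odd (Nat.card N)) :
    ∃ L : Subgroup G, Odd (Nat.card L) ∧ L.map π = N ∧
      ∀ g : G, g ∈ L ↔ π g ∈ N ∧ Odd (orderOf g) := by
  set K := N.comap π with hK
  have hZK : center G ≤ K := fun z hz => by
    show π z ∈ N
    rw [show π z = 1 from (QuotientGroup.eq_one_iff z).2 hz]; exact one_mem _
  set Z := (center G).subgroupOf K with hZ
  have hidx : Odd Z.index := by
    have h1 : (center G).relIndex K = Nat.card N := by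
      have h := relIndex_ker K π
      rwa [map_comap_eq_self_of_surjective (QuotientGroup.mk'_surjective _),
        QuotientGroup.ker_mk'] at h
    rw [hZ, ← relIndex, h1]
    exact hN
  have hZp : IsPGroup 2 Z := fun k => ⟨1, Subtype.ext (Subtype.ext (by
    rw [pow_one, sq]; exact h.center_sq k.2))⟩
  let L : Subgroup G :=
    { carrier := {g | g ∈ K ∧ Odd (orderOf g)}
      one_mem' := ⟨one_mem _, by rw [orderOf_one]; exact odd_one⟩
      mul_mem' := fun {a b} ha hb => ⟨mul_mem ha.1 hb.1, by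
        have := odd_mul_of_central (Z := Z) (fun z hz g => Subtype.ext
          (mem_center_iff.1 (show (z : G) ∈ center G from hz) (g : G)).symm) hZp hidx
          (a := ⟨a, ha.1⟩) (b := ⟨b, hb.1⟩)
          (by rw [orderOf_mk]; exact ha.2) (by rw [orderOf_mk]; exact hb.2)
        rwa [MulMemClass.mk_mul_mk, orderOf_mk] at this⟩
      inv_mem' := fun {a} ha => ⟨inv_mem ha.1, by rw [orderOf_inv]; exact ha.2⟩ }
  refine ⟨L, odd_card_of_orderOf fun g hg => hg.2, le_antisymm ?_ fun w hw => ?_, fun g => Iff.rfl⟩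
  · rintro _ ⟨g, hg, rfl⟩; exact hg.1
  obtain ⟨g, rfl⟩ := QuotientGroup.mk_surjective w
  obtain ⟨i, r, hr, hgo⟩ := Nat.exists_eq_two_pow_mul_odd (orderOf_pos g).ne'
  have hwo : Odd (orderOf (π g)) := hN.of_dvd_nat (Subgroup.orderOf_dvd_natCard _ hw)
  have hwr : orderOf (π g) ∣ r := ((Nat.coprime_two_left.2 hwo).pow_left i).symm.dvd_of_dvd_mul_left
    (hgo ▸ orderOf_map_dvd π g)
  have hc : Nat.Coprime (2 ^ i) (orderOf (π g)) :=
    ((Nat.coprime_two_left.2 hr).pow_left i).coprime_dvd_right hwr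
  obtain ⟨t, ht⟩ := exists_pow_eq_self_of_coprime hc
  refine ⟨(g ^ 2 ^ i) ^ t, ⟨?_, ?_⟩, ?_⟩
  · show π ((g ^ 2 ^ i) ^ t) ∈ N
    rw [map_pow, map_pow, ht]; exact hw
  · refine hr.of_dvd_nat (orderOf_dvd_of_pow_eq_one ?_)
    rw [← pow_mul, mul_comm, pow_mul, ← pow_mul g, ← hgo, pow_orderOf_eq_one, one_pow]
  · show π ((g ^ 2 ^ i) ^ t) = π g
    rw [map_pow, map_pow, ht]

variable (h : Hyp S n) {x : G} (hx : x ∈ (S : Subgroup G)) (hx2 : x * x ≠ 1)

/-- The elements of `C_S(x)` with central square. -/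
def Hyp.bx : Subgroup G where
  carrier := {p | p ∈ cx S x ∧ p * p ∈ center G}
  one_mem' := ⟨one_mem _, by rw [one_mul]; exact one_mem _⟩
  mul_mem' := fun {a b} ha hb => ⟨mul_mem ha.1 hb.1, by
    rw [show a * b * (a * b) = a * a * (b * b) by
      calc a * b * (a * b) = a * (b * a) * b := by group
        _ = a * (a * b) * b := by rw [h.cent hx hx2 hb.1 ha.1]
        _ = a * a * (b * b) := by group]
    exact mul_mem ha.2 hb.2⟩
  inv_mem' := fun {a} ha => ⟨inv_mem ha.1, by rw [← mul_inv_rev]; exact inv_mem ha.2⟩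

include h

theorem Hyp.zs_le_bx : zs S ≤ h.bx hx hx2 := fun e he =>
  ⟨h.zs_le_cx hx he, by rw [(h.mem_zs.1 he).2]; exact one_mem _⟩

theorem Hyp.card_bx : Nat.card (h.bx hx hx2) = 2 ^ n * Nat.card (center G) := by
  let f : h.bx hx hx2 →* center G := MonoidHom.mk' (fun p => ⟨p.1 * p.1, p.2.2⟩) fun a b =>
    Subtype.ext (by
      show (a.1 * b.1) * (a.1 * b.1) = a.1 * a.1 * (b.1 * b.1)
      calc (a.1 * b.1) * (a.1 * b.1) = a.1 * (b.1 * a.1) * b.1 := by group
        _ = a.1 * (a.1 * b.1) * b.1 := by rw [h.cent hx hx2 b.2.1 a.2.1]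
        _ = a.1 * a.1 * (b.1 * b.1) := by group)
  have hker : Nat.card f.ker = 2 ^ n := by
    rw [← h.card_zs]
    exact Nat.card_congr
      { toFun := fun k => ⟨k.1.1, h.mem_zs.2 ⟨k.1.2.1.1, congrArg Subtype.val k.2⟩⟩
        invFun := fun k => ⟨⟨k.1, h.zs_le_bx hx hx2 k.2⟩, Subtype.ext (h.mem_zs.1 k.2).2⟩
        left_inv := fun _ => rfl
        right_inv := fun _ => rfl }
  have hsurj : f.range = ⊤ := eq_top_iff.2 fun u _ => by
    obtain ⟨p, hp, hpu⟩ := h.exists_sqrt_cx hx hx2 (h.center_le_zs u.2)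
    exact ⟨⟨p, hp, hpu ▸ u.2⟩, Subtype.ext hpu⟩
  have h1 := f.ker.card_mul_index
  rw [index_ker, hker, hsurj, card_top] at h1
  exact h1.symm

/-- Elements normalizing `C_S(x)` normalize `bx`. -/
theorem Hyp.conj_mem_bx {g : G} (hg : g ∈ normalizer (cx S x : Set G)) {p : G}
    (hp : p ∈ h.bx hx hx2) : g * p * g⁻¹ ∈ h.bx hx hx2 :=
  ⟨(mem_normalizer_iff.1 hg p).1 hp.1, by
    rw [show g * p * g⁻¹ * (g * p * g⁻¹) = g * (p * p) * g⁻¹ by group]
    exact (inferInstance : (center G).Normal).conj_mem _ hp.2 g⟩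

omit hx hx2 in
/-- Conjugates of `C_S(x)` inside `S`. -/
theorem Hyp.mem_normalizer_cx {x : G} (hx : x ∈ (S : Subgroup G)) {g : G} (hg : g ∈ (S : Subgroup G)) :
    g ∈ normalizer (cx S x : Set G) := by
  refine mem_normalizer_iff_map_conj_eq.2 (eq_of_le_of_card_ge ?_
    (card_map_of_injective (f := (MulAut.conj g).toMonoidHom) (MulAut.conj g).injective).ge)
  rintro _ ⟨p, hp, rfl⟩
  exact h.conj_mem_cx hx hg hp

/-- The functor on `bx`. -/
theorem Hyp.functor_bx (hcard : 2 ^ n ≤ 4 * Nat.card (center G)) :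
    Odd (Nat.card (wsub (h.bx hx hx2))) ∧ ∀ b ∈ h.bx hx hx2, b ∉ center G →
      ∀ D : Subgroup G, D ≤ centralizer {b} → Odd (Nat.card D) →
      (∀ p ∈ cx S x, ∀ d ∈ D, p * d * p⁻¹ ∈ D) → D ≤ core b := by
  haveI : Fact (Nat.Prime 2) := ⟨Nat.prime_two⟩
  have hinv : ∀ b ∈ h.bx hx hx2, b ∉ center G → ∀ D : Subgroup G, D ≤ centralizer {b} →
      Odd (Nat.card D) → (∀ p ∈ cx S x, ∀ d ∈ D, p * d * p⁻¹ ∈ D) → D ≤ core b := by
    intro b hb hbU D hD hodd hn
    by_cases hbb : b * b = 1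
    · exact h.inv_inv (h.mem_zs.2 ⟨hb.1.1, hbb⟩) hbU (cx_le x) hx le_rfl hD hodd hn
    have hbS : b ∈ (S : Subgroup G) := hb.1.1
    have hcx : cx S b = cx S x := h.cx_eq hx hx2 hb.1 hbb
    set X := centralizer ({b} : Set G) with hX
    have hle := le_oddCore_of_inv (h.sylowX hbS hbb)
      (Q := (h.sylowX hbS hbb : Subgroup X)) (D := D.subgroupOf X) le_rfl
      (h.dec hcard hbS hbb)
      (fun m _ _ hc => mem_centralizer_iff.2 fun p hp => (hc p hp).symm)
      (by rw [Nat.card_congr (subgroupOfEquivOfLe hD).toEquiv]; exact hodd)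
      (fun p hp d hd => hn p (hcx ▸ mem_subgroupOf.1 hp) d hd)
    exact fun d hd => ⟨⟨d, hD hd⟩, hle hd, rfl⟩
  refine ⟨(h.functor (B := h.bx hx hx2) (Q := cx S x)
    (fun a ha b hb => h.cent hx hx2 ha.1 hb.1) (fun b hb => hb.2)
    (h.center_le_zs.trans (h.zs_le_bx hx hx2)) ?_
    (fun p hp b hb => h.cent hx hx2 hp hb.1) hinv).1, hinv⟩
  rw [h.card_bx hx hx2]
  exact Nat.mul_le_mul_right _ (le_trans (by norm_num : 8 ≤ 2 ^ 3)
    (Nat.pow_le_pow_right two_pos h.n_le))

/-- The subgroups of the functors do not depend on `x`. -/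
theorem Hyp.wsub_le (hcard : 2 ^ n ≤ 4 * Nat.card (center G)) {y : G}
    (hy : y ∈ (S : Subgroup G)) (hy2 : y * y ≠ 1) :
    wsub (h.bx hx hx2) ≤ wsub (h.bx hy hy2) := by
  obtain ⟨hWodd, -⟩ := h.functor_bx hx hx2 hcard
  obtain ⟨-, hinv⟩ := h.functor_bx hy hy2 hcard
  have hn : ∀ a ∈ (S : Subgroup G), ∀ w ∈ wsub (h.bx hx hx2),
      π a * w * (π a)⁻¹ ∈ wsub (h.bx hx hx2) := fun a ha w hw =>
    (mem_normalizer_iff.1 (mem_normalizer_wsub a fun b hb =>
      h.conj_mem_bx hx hx2 (h.mem_normalizer_cx hx ha) hb) w).1 hw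
  refine le_of_fixed (A := (h.bx hy hy2).map π) ?_ ?_ ?_ hWodd ?_ ?_
  · rintro _ ⟨a, ha, rfl⟩ _ ⟨b, hb, rfl⟩
    rw [← map_mul, h.cent hy hy2 ha.1 hb.1, map_mul]
  · rintro _ ⟨a, ha, rfl⟩
    rw [← map_mul]; exact (QuotientGroup.eq_one_iff _).2 ha.2
  · have h1 := ((π).comp (h.bx hy hy2).subtype).ker.card_mul_index
    rw [index_ker] at h1
    have h2 : Nat.card ((π).comp (h.bx hy hy2).subtype).ker ≤ Nat.card (center G) :=
      Nat.card_le_card_of_injective (fun k => ⟨k.1.1, (QuotientGroup.eq_one_iff _).1 k.2⟩)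
        fun a b e => Subtype.ext (Subtype.ext (congrArg Subtype.val e :))
    rw [MonoidHom.range_comp, range_subtype, h.card_bx hy hy2] at h1
    have : 0 < Nat.card (center G) := Nat.card_pos
    have : 2 ^ 3 ≤ 2 ^ n := Nat.pow_le_pow_right two_pos h.n_le
    nlinarith
  · rintro _ ⟨a, ha, rfl⟩ w hw
    exact hn a ha.1.1 w hw
  · rintro _ ⟨b, hb, rfl⟩ hb1 w hw hcomm
    have hbU : b ∉ center G := fun hc => hb1 ((QuotientGroup.eq_one_iff b).2 hc)
    obtain ⟨L, hLodd, hLmap, hmem⟩ := h.exists_oddLift hWodd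
    obtain ⟨d, hd, rfl⟩ := hLmap.ge hw
    have hdb : d * b = b * d := h.commute_lift (hLodd.of_dvd_nat (orderOf_dvd_natCard _ hd))
      ((QuotientGroup.eq_one_iff _).1 (by
        show π (d * b * d⁻¹ * b⁻¹) = 1
        rw [map_mul, map_mul, map_mul, hcomm, map_inv, map_inv, mul_inv_cancel_right,
          mul_inv_cancel]))
    refine le_wsub hb hbU ⟨d, ?_, rfl⟩
    refine hinv b hb hbU (L ⊓ centralizer {b}) inf_le_right
      (hLodd.of_dvd_nat (card_dvd_of_le inf_le_left)) ?_ ⟨hd, mem_centralizer_singleton_iff.2 hdb⟩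
    intro p hp k hk
    have hpc : p ∈ centralizer ({b} : Set G) :=
      mem_centralizer_singleton_iff.2 (h.cent hy hy2 hp hb.1)
    refine ⟨(hmem _).2 ⟨?_, ?_⟩, (centralizer ({b} : Set G)).mul_mem
      ((centralizer ({b} : Set G)).mul_mem hpc hk.2) ((centralizer ({b} : Set G)).inv_mem hpc)⟩
    · rw [map_mul, map_mul, map_inv]
      exact hn p hp.1 _ ((hmem k).1 hk.1).1
    · rw [Invol.orderOf_conj_eq]; exact ((hmem k).1 hk.1).2

omit hx hx2 in
/-- The case of a large centre. -/
theorem Hyp.small (hcard : 2 ^ n ≤ 4 * Nat.card (center G)) : Outcome S := by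
  haveI : Fact (Nat.Prime 2) := ⟨Nat.prime_two⟩
  have hn8 : 2 ^ 3 ≤ 2 ^ n := Nat.pow_le_pow_right two_pos h.n_le
  -- an element of order four with central square
  obtain ⟨x, hx, hx2, hxc⟩ : ∃ x ∈ (S : Subgroup G), x * x ≠ 1 ∧ x * x ∈ center G := by
    obtain ⟨u, hu, hu1⟩ : ∃ u ∈ center G, u ≠ 1 := by
      by_contra hno
      push Not at hno
      rw [(eq_bot_iff_forall _).2 hno, card_bot] at hcard
      omega
    obtain ⟨g, hg⟩ := h.facts.exists_sqrt ⟨u, h.center_le hu⟩ (Subtype.ext (h.center_sq hu))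
    have hgu : (g : G) * g = u := congrArg Subtype.val hg
    exact ⟨g, g.2, by rw [hgu]; exact hu1, hgu ▸ hu⟩
  obtain ⟨hWodd, -⟩ := h.functor_bx hx hx2 hcard
  set W := wsub (h.bx hx hx2) with hW
  have hWeq : ∀ y, ∀ hy : y ∈ (S : Subgroup G), ∀ hy2 : y * y ≠ 1, wsub (h.bx hy hy2) = W :=
    fun y hy hy2 => le_antisymm (h.wsub_le hy hy2 hcard hx hx2) (h.wsub_le hx hx2 hcard hy hy2)
  have hWNS : ∀ g ∈ normalizer ((S : Subgroup G) : Set G), π g ∈ normalizer (W : Set (G ⧸ center G)) := by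
    intro g hg
    refine mem_normalizer_iff_map_conj_eq.2 (eq_of_le_of_card_ge ?_
      (card_map_of_injective (f := (MulAut.conj (π g)).toMonoidHom) (MulAut.conj (π g)).injective).ge)
    have hy : g * x * g⁻¹ ∈ (S : Subgroup G) := (mem_normalizer_iff.1 hg x).1 hx
    have hy2 : g * x * g⁻¹ * (g * x * g⁻¹) ≠ 1 := fun e => hx2 (by
      rwa [show g * x * g⁻¹ * (g * x * g⁻¹) = g * (x * x) * g⁻¹ by group, conj_eq_one_iff] at e)
    refine (conj_wsub_le g fun b hb => ?_).trans (hWeq _ hy hy2).le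
    refine ⟨⟨(mem_normalizer_iff.1 hg b).1 hb.1.1, mem_centralizer_singleton_iff.2 ?_⟩, ?_⟩
    · calc g * b * g⁻¹ * (g * x * g⁻¹) = g * (b * x) * g⁻¹ := by group
        _ = g * (x * b) * g⁻¹ := by rw [mem_centralizer_singleton_iff.1 hb.1.2]
        _ = g * x * g⁻¹ * (g * b * g⁻¹) := by group
    · rw [show g * b * g⁻¹ * (g * b * g⁻¹) = g * (b * b) * g⁻¹ by group]
      exact (inferInstance : (center G).Normal).conj_mem _ hb.2 g
  -- elements of order four: cores
  have hcoreW : ∀ y, ∀ hy : y ∈ (S : Subgroup G), ∀ hy2 : y * y ≠ 1, y * y ∈ center G →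
      (core y).map π ≤ W := fun y hy hy2 hyc => by
    rw [← hWeq y hy hy2]
    refine le_wsub ⟨mem_cx_self hy, hyc⟩ fun hc => hy2 ?_
    exact h.center_sq hc
  have hcoreE : ∀ e ∈ zs S, e ∉ center G → (core e).map π ≤ W := fun e he heU =>
    le_wsub (h.zs_le_bx hx hx2 he) heU
  have hcoreY : ∀ y ∈ (S : Subgroup G), ∀ hy2 : y * y ≠ 1, y * y ∈ center G →
      W = ⊥ → core y = ⊥ := fun y hy hy2 hyc hWb => (eq_bot_iff_forall _).2 fun d hd =>
    h.eq_one_of_odd ((odd_core y).of_dvd_nat (orderOf_dvd_natCard _ hd)) (by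
      have := hcoreW y hy hy2 hyc ⟨d, hd, rfl⟩
      rw [hWb, mem_bot] at this
      exact this)
  -- the subgroup `M`
  obtain ⟨M, hNS, hWM, hNY, hMtop⟩ : ∃ M : Subgroup (G ⧸ center G),
      (∀ g ∈ normalizer ((S : Subgroup G) : Set G), π g ∈ M) ∧ W ≤ M ∧
      (∀ y ∈ (S : Subgroup G), y * y ≠ 1 → y * y ∈ center G → ∀ g ∈ normalizer (cx S y : Set G),
        g * y * g⁻¹ * y⁻¹ ∈ center G → π g ∈ M) ∧
      (M = ⊤ → (S : Subgroup G).Normal) := by
    by_cases hWb : W = ⊥
    · refine ⟨(normalizer ((S : Subgroup G) : Set G)).map π, fun g hg => ⟨g, hg, rfl⟩,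
        hWb ▸ bot_le, fun y hy hy2 hyc g hg hgc => ⟨g, ?_, rfl⟩, fun htop => ?_⟩
      · by_cases hE : ∃ e ∈ zs S, e ∉ center G
        · obtain ⟨e, he, heU⟩ := hE
          refine h.zs_normalizer_le he heU ((eq_bot_iff_forall _).2 fun d hd =>
            h.eq_one_of_odd ((odd_core e).of_dvd_nat (orderOf_dvd_natCard _ hd)) (by
              have := hcoreE e he heU ⟨d, hd, rfl⟩
              rw [hWb, mem_bot] at this
              exact this)) (h.normalizer_cx hy hy2 hg)
        · -- `Z(S)` is central in `G`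
          push Not at hE
          set X := centralizer ({y} : Set G) with hX
          set P := h.sylowX hy hy2 with hP
          have hR : commutator X ⊓ (P : Subgroup X) = ⊥ := (eq_bot_iff_forall _).2 fun r hr => by
            by_contra hr1
            have hrS : (r : G) ∈ (S : Subgroup G) := (mem_subgroupOf.1 hr.2).1
            by_cases hrr : r * r = 1
            · exact hr1 (h.eq_one_of_center hy hy2 hr.1
                (hE _ (h.mem_zs.2 ⟨hrS, congrArg Subtype.val hrr⟩)))
            · exact hrr (h.eq_one_of_center hy hy2 (mul_mem hr.1 hr.1)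
                (hE _ (h.sq_mem_zs hrS)))
          have hcy := hcoreY y hy hy2 hyc hWb
          have hXab : ∀ a b : X, a * b = b * a := fun a b => by
            have h1 : a * b * a⁻¹ * b⁻¹ ∈ Cfsg.oddCore X :=
              Bender.Core.le_oddCore (commutator_normal ⊤ ⊤) (h.odd_commutator hy hy2 hR)
                (commutator_mem_commutator (mem_top a) (mem_top b))
            have h2 : ((a * b * a⁻¹ * b⁻¹ : X) : G) ∈ core y := ⟨_, h1, rfl⟩
            rw [hcy, mem_bot] at h2
            exact mul_inv_eq_iff_eq_mul.1 (mul_inv_eq_one.1 (Subtype.ext h2))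
          -- `C(y)` is a 2-group
          have hcent : Nat.card X ≤ (2 ^ n) ^ 2 := by
            have hXp : IsPGroup 2 X := fun k => by
              obtain ⟨i, r, hr, hko⟩ := Nat.exists_eq_two_pow_mul_odd (orderOf_pos k).ne'
              refine ⟨i, ?_⟩
              set d := k ^ 2 ^ i with hd
              have hdo : Odd (orderOf d) := hr.of_dvd_nat (orderOf_dvd_of_pow_eq_one (by
                rw [hd, ← pow_mul, ← hko, pow_orderOf_eq_one]))
              have hn : (zpowers d).Normal := ⟨fun z hz c => by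
                rw [hXab c z, mul_inv_cancel_right]; exact hz⟩
              have h2 : (d : G) ∈ core y := ⟨d, Bender.Core.le_oddCore hn
                (by rw [Nat.card_zpowers]; exact hdo) (mem_zpowers d), rfl⟩
              rw [hcy, mem_bot] at h2
              exact Subtype.ext h2
            rw [← h.card_cx hy hy2]
            exact le_of_eq (congrArg (fun Q : Subgroup G => Nat.card Q)
              (h.cx_max hy hy2 X hXp le_rfl (cx_le_centralizer y)))
          -- the preimage of the centralizer in the quotient is `S`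
          set Y := (centralizer ({π y} : Set (G ⧸ center G))).comap π with hY
          have hSY : (S : Subgroup G) ≤ Y := fun s hs => by
            refine mem_centralizer_singleton_iff.2 ?_
            have hc : s * y * s⁻¹ * y⁻¹ ∈ center G := hE _ (h.mem_zs.2
              ⟨mul_mem (mul_mem (mul_mem hs hy) (inv_mem hs)) (inv_mem hy), h.comm_sq hs hy⟩)
            have h1 : π s * π y * (π s)⁻¹ * (π y)⁻¹ = 1 := by
              rw [← map_inv, ← map_inv, ← map_mul, ← map_mul, ← map_mul]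
              exact (QuotientGroup.eq_one_iff _).2 hc
            exact mul_inv_eq_iff_eq_mul.1 (mul_inv_eq_one.1 h1)
          have hcomm : ∀ k ∈ Y, k * y * k⁻¹ * y⁻¹ ∈ center G := fun k hk =>
            (QuotientGroup.eq_one_iff _).1 (by
              show π (k * y * k⁻¹ * y⁻¹) = 1
              rw [map_mul, map_mul, map_mul, map_inv, map_inv,
                show π k * π y = π y * π k from mem_centralizer_singleton_iff.1 hk,
                mul_inv_cancel_right, mul_inv_cancel])
          let ψ : Y →* center G := MonoidHom.mk' (fun k => ⟨_, hcomm k k.2⟩) fun a b =>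
            Subtype.ext (by
              have hb := hcomm b b.2
              show (a.1 * b.1) * y * (a.1 * b.1)⁻¹ * y⁻¹ =
                a.1 * y * a.1⁻¹ * y⁻¹ * (b.1 * y * b.1⁻¹ * y⁻¹)
              calc (a.1 * b.1) * y * (a.1 * b.1)⁻¹ * y⁻¹
                  = a.1 * (b.1 * y * b.1⁻¹ * y⁻¹) * (y * a.1⁻¹ * y⁻¹) := by group
                _ = b.1 * y * b.1⁻¹ * y⁻¹ * a.1 * (y * a.1⁻¹ * y⁻¹) := by
                  rw [mem_center_iff.1 hb a.1]
                _ = b.1 * y * b.1⁻¹ * y⁻¹ * (a.1 * y * a.1⁻¹ * y⁻¹) := by group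
                _ = _ := (mem_center_iff.1 hb _).symm)
          have hk : Nat.card ψ.ker ≤ Nat.card X := Nat.card_le_card_of_injective
            (fun k => ⟨k.1.1, mem_centralizer_singleton_iff.2 (mul_inv_eq_iff_eq_mul.1
              (mul_inv_eq_one.1 (congrArg Subtype.val k.2)))⟩)
            fun a b e => Subtype.ext (Subtype.ext (congrArg Subtype.val e :))
          have hr : Nat.card ψ.range ≤ 2 ^ n := by
            rw [← h.card_zs]
            exact (card_le_card_group _).trans (card_le_of_le h.center_le_zs)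
          have hYS : (S : Subgroup G) = Y := eq_of_le_of_card_ge hSY (by
            rw [← ψ.ker.card_mul_index, index_ker, h.facts.card,
              show (2 ^ n) ^ 3 = (2 ^ n) ^ 2 * 2 ^ n by ring]
            exact Nat.mul_le_mul (hk.trans hcent) hr)
          refine le_normalizer ?_
          rw [hYS]
          refine mem_centralizer_singleton_iff.2 ?_
          have h1 : π g * π y * (π g)⁻¹ * (π y)⁻¹ = 1 := by
            rw [← map_inv, ← map_inv, ← map_mul, ← map_mul, ← map_mul]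
            exact (QuotientGroup.eq_one_iff _).2 hgc
          exact mul_inv_eq_iff_eq_mul.1 (mul_inv_eq_one.1 h1)
      · rw [← normalizer_eq_top_iff, eq_top_iff]
        intro g _
        obtain ⟨g', hg', hgg⟩ := htop.ge (mem_top (π g))
        have := mul_mem hg' (le_normalizer (h.center_le (QuotientGroup.eq.1 hgg)))
        rwa [mul_inv_cancel_left] at this
    · refine ⟨normalizer (W : Set (G ⧸ center G)), hWNS, le_normalizer,
        fun y hy hy2 _ g hg _ => ?_, fun htop => (hWb ?_).elim⟩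
      · rw [← hWeq y hy hy2]
        exact mem_normalizer_wsub g fun b hb => h.conj_mem_bx hy hy2 hg hb
      · exact le_bot_iff.1 (h.oddCore_quot ▸
          Bender.Core.le_oddCore (normalizer_eq_top_iff.1 htop) hWodd)
  by_cases hM : M = ⊤
  · exact Or.inl (hMtop hM)
  refine Or.inr ⟨M, hM, hNS, fun y hy hyU hyc => ?_⟩
  by_cases hyy : y * y = 1
  · have he : y ∈ zs S := h.mem_zs.2 ⟨hy, hyy⟩
    refine h.centralizer_quot_le (T := (S : Subgroup G)) (fun s hs =>
      mem_centralizer_singleton_iff.2 (h.central hy hyy hs).symm) S.2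
      (fun Q hQ _ hle => S.3 hQ hle) (fun c hc => ?_) fun m hm _ => hNS m hm
    obtain ⟨o, ho, m, hm, rfl⟩ := h.loc y hy hyy hyU c hc
    rw [map_mul]
    exact mul_mem (hWM (hcoreE y he hyU ⟨o, ho, rfl⟩)) (hNS m hm)
  refine h.centralizer_quot_le (T := cx S y) (cx_le_centralizer y) (S.2.to_le (cx_le y))
    (h.cx_max hy hyy) (fun c hc => ?_) fun m hm hmc => hNY y hy hyy hyc m hm hmc
  obtain ⟨o, ho, m, hm, hcm⟩ := h.dec hcard hy hyy ⟨c, hc⟩
  rw [show c = (o : G) * (m : G) from congrArg Subtype.val hcm, map_mul]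
  refine mul_mem (hWM (hcoreW y hy hyy hyc ⟨_, ⟨o, ho, rfl⟩, rfl⟩))
    (hNY y hy hyy hyc _ (h.normalizer_sylowX hy hyy hm) ?_)
  rw [show (m : G) * y * (m : G)⁻¹ = y by
    rw [mem_centralizer_singleton_iff.1 m.2, mul_inv_cancel_right], mul_inv_cancel]
  exact one_mem _

end CfsgLib.U3Type
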